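import Cfsg.Agent.Lib.OddTrans.Solvable
import Cfsg.Agent.S3360
import Cfsg.Agent.Lib.Core.Fitting
import Cfsg.Agent.Lib.PGroup.Elements
import Mathlib.FieldTheory.Finite.Basic
import Mathlib.Algebra.CharP.Algebra

/-!
# The Fitting subgroup of a transitive linear group of odd order in characteristic two

Such a group acts semilinearly on a finite field; its Fitting subgroup is the linear part.
-/

set_option autoImplicit false
set_option linter.unusedSectionVars false
set_option linter.style.haveILetI false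

namespace Cfsg.Lib.OddTrans

open Cfsg Module
open scoped commutatorElement

universe u v

theorem dvd_of_pow_sub_one_dvd {n j : ℕ} (h : 2 ^ n - 1 ∣ 2 ^ j - 1) : n ∣ j := by
  have h1 : Nat.gcd (2 ^ n - 1) (2 ^ j - 1) = 2 ^ n - 1 := Nat.gcd_eq_left h
  rw [Nat.pow_sub_one_gcd_pow_sub_one] at h1
  have := Nat.one_le_two_pow (n := n)
  have := Nat.one_le_two_pow (n := Nat.gcd n j)
  have h2 : Nat.gcd n j = n := Nat.pow_right_injective le_rfl (by omega : 2 ^ Nat.gcd n j = 2 ^ n)
  exact h2 ▸ Nat.gcd_dvd_right n j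

theorem dvd_gcd_sub_one {n j r : ℕ} (h : r ∣ 2 ^ n - 1) (h' : r ∣ 2 ^ j - 1) :
    r ∣ 2 ^ Nat.gcd n j - 1 := by
  rw [← Nat.pow_sub_one_gcd_pow_sub_one]; exact Nat.dvd_gcd h h'

theorem structure_of_transitive {D : Type u} {E : Type v} [Group D] [Fintype D] [AddCommGroup E]
    [Finite E] [DistribMulAction D E] [FaithfulSMul D E] [Nontrivial E]
    (hodd : Odd (Nat.card D)) (hE : ∀ w : E, 2 • w = 0)
    (htrans : ∀ a b : E, a ≠ 0 → b ≠ 0 → ∃ d : D, d • a = b) :
    IsCyclic (Cfsg.fittingSubgroup D) ∧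
      (∀ g ∈ Cfsg.fittingSubgroup D, g ≠ 1 → ∀ w : E, g • w = w → w = 0) ∧
      commutator D ≤ Cfsg.fittingSubgroup D ∧
      (∀ g : D, (∀ f ∈ Cfsg.fittingSubgroup D, g * f = f * g) → g ∈ Cfsg.fittingSubgroup D) ∧
      ∃ (m : ℕ) (θ : D →* Multiplicative (ZMod m)), θ.ker = Cfsg.fittingSubgroup D := by
  classical
  haveI : Fact (Nat.Prime 2) := ⟨Nat.prime_two⟩
  letI : Module (ZMod 2) E := AddCommGroup.zmodModule hE
  have hsol : Group.IsSolvable D := isSolvable_of_transitive hodd hE htrans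
  let L₀ : D → (E ≃ₗ[ZMod 2] E) := fun g =>
    { ((DistribMulAction.toAddMonoidEnd D E g : E →+ E).toZModLinearMap 2) with
      invFun := fun w => g⁻¹ • w
      left_inv := fun w => inv_smul_smul g w
      right_inv := fun w => smul_inv_smul g w }
  let ρ : D →* (E ≃ₗ[ZMod 2] E) :=
    { toFun := L₀
      map_one' := LinearEquiv.ext fun w => one_smul D w
      map_mul' := fun g h => LinearEquiv.ext fun w => mul_smul g h w }
  have hρ : ∀ g (w : E), ρ g w = g • w := fun _ _ => rfl
  rcases Cfsg.Agent.S3360.result 2 hsol ρ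
    (fun g h e => eq_of_smul_eq_smul fun w : E => LinearEquiv.congr_fun e w) htrans with
    ⟨F, _, _, e, hsemi⟩ | hexc
  swap
  · exfalso
    have h2 : ∃ k, Nat.card E = 2 ^ k := ⟨_, by
      rw [Module.natCard_eq_pow_finrank (K := ZMod 2), Nat.card_zmod]⟩
    obtain ⟨k, hk⟩ := h2
    have h1 : 2 ∣ Nat.card E := by
      rw [hk]
      refine dvd_pow_self 2 fun h0 => ?_
      have := Finite.one_lt_card (α := E)
      rw [hk, h0] at this
      simp at this
    rcases hexc with h | h | h | h | h | h <;> (try simp only [Set.mem_singleton_iff] at h) <;>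
      rw [h] at h1 <;> omega
  -- the field has characteristic two
  haveI : CharP F 2 := CharTwo.of_one_ne_zero_of_two_eq_zero one_ne_zero (by
    obtain ⟨w, hw⟩ := e.surjective (1 : F)
    rw [show (2 : F) = 1 + 1 by norm_num, ← hw, ← map_add, ← two_nsmul, hE, map_zero])
  letI : Algebra (ZMod 2) F := ZMod.algebra F 2
  set n := Module.finrank (ZMod 2) F with hn
  have hcardF : Fintype.card F = 2 ^ n := by
    rw [Module.card_eq_pow_finrank (K := ZMod 2), ZMod.card]
  have hcardE : Nat.card E = 2 ^ n := by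
    rw [Nat.card_congr e.toEquiv, Nat.card_eq_fintype_card, hcardF]
  have hn0 : 0 < n := Module.finrank_pos
  -- every element acts as a monomial map
  have hmon : ∀ g : D, ∃ (a : F) (i : ℕ), a ≠ 0 ∧ ∀ w : E, e (g • w) = a * e w ^ 2 ^ i := by
    intro g
    obtain ⟨a, σ, hσ⟩ := hsemi g
    obtain ⟨i, hi⟩ := (FiniteField.bijective_frobeniusAlgEquivOfAlgebraic_pow (ZMod 2) F).2
      (AlgEquiv.ofRingEquiv (f := σ) fun x => by
        obtain ⟨k, rfl⟩ := ZMod.natCast_zmod_surjective x
        simp)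
    refine ⟨a, i, fun ha => ?_, fun w => ?_⟩
    · have h := hσ (e.symm 1)
      rw [ha, zero_mul, map_eq_zero_iff _ e.injective, hρ, smul_eq_zero_iff_eq,
        map_eq_zero_iff _ e.symm.injective] at h
      exact one_ne_zero h
    · have hpow : σ (e w) = e w ^ 2 ^ (i : ℕ) := by
        have h := DFunLike.congr_fun hi (e w)
        simp only [AlgEquiv.coe_pow, FiniteField.coe_frobeniusAlgEquivOfAlgebraic_iterate,
          ZMod.card, AlgEquiv.ofRingEquiv_apply] at h
        exact h.symm
      rw [← hpow, ← hρ, hσ]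
  choose a i ha hai using hmon
  have haval : ∀ g, a g = e (g • e.symm 1) := fun g => by
    rw [hai, e.apply_symm_apply, one_pow, mul_one]
  have hcomp : ∀ g h (w : E), e ((g * h) • w) = a g * a h ^ 2 ^ i g * e w ^ 2 ^ (i h + i g) := by
    intro g h w
    rw [mul_smul, hai, hai, mul_pow, ← pow_mul, ← pow_add, mul_assoc]
  -- the linear part
  let L : Subgroup D :=
    { carrier := {g | ∀ w : E, e (g • w) = a g * e w}
      one_mem' := fun w => by
        rw [haval, one_smul, one_smul, e.apply_symm_apply, one_mul]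
      mul_mem' := fun {g h} hg hh w => by
        rw [haval (g * h), mul_smul, mul_smul, hg, hh, hg, hh, e.apply_symm_apply, mul_one, mul_assoc]
      inv_mem' := fun {g} hg w => by
        have h1 := hg (g⁻¹ • w)
        have h2 := hg (g⁻¹ • e.symm 1)
        rw [smul_inv_smul] at h1 h2
        rw [e.apply_symm_apply, ← haval] at h2
        rw [h1, ← mul_assoc, mul_comm (a g⁻¹) (a g), ← h2, one_mul] }
  have hmemL : ∀ {g}, g ∈ L ↔ ∀ w : E, e (g • w) = a g * e w := fun {g} => Iff.rfl
  have hLiff : ∀ g, g ∈ L ↔ n ∣ i g := by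
    intro g
    constructor
    · intro hg
      obtain ⟨u, hu⟩ := IsCyclic.exists_generator (α := Fˣ)
      have hord : orderOf u = 2 ^ n - 1 := by
        rw [orderOf_eq_card_of_forall_mem_zpowers hu, Nat.card_eq_fintype_card, Fintype.card_units,
          hcardF]
      have h := hg (e.symm u)
      rw [hai, e.apply_symm_apply] at h
      have h' : u ^ (2 ^ i g - 1) = 1 := by
        have h3 : u ^ 2 ^ i g = u := Units.ext (by
          rw [Units.val_pow_eq_pow_val]; exact mul_left_cancel₀ (ha g) h)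
        rwa [← Nat.sub_add_cancel (Nat.one_le_two_pow (n := i g)), pow_succ, mul_eq_right] at h3
      exact dvd_of_pow_sub_one_dvd (hord ▸ orderOf_dvd_of_pow_eq_one h')
    · rintro ⟨j, hj⟩ w
      rw [hai, hj, pow_mul, ← hcardF, FiniteField.pow_card_pow]
  -- powers
  have hpow : ∀ (g : D) (k : ℕ), ∃ b : F, ∀ w : E, e (g ^ k • w) = b * e w ^ 2 ^ (k * i g) := by
    intro g k
    induction k with
    | zero => exact ⟨1, fun w => by simp⟩
    | succ k ih =>
      obtain ⟨b, hb⟩ := ih
      exact ⟨b * a g ^ 2 ^ (k * i g), fun w => by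
        rw [pow_succ, mul_smul, hb, hai, mul_pow, ← pow_mul, ← pow_add, ← mul_assoc,
          show i g + k * i g = (k + 1) * i g by ring]⟩
  have hpowL : ∀ (g : D) (k : ℕ), g ^ k ∈ L → n ∣ k * i g := by
    intro g k hk
    obtain ⟨b, hb⟩ := hpow g k
    obtain ⟨u, hu⟩ := IsCyclic.exists_generator (α := Fˣ)
    have hord : orderOf u = 2 ^ n - 1 := by
      rw [orderOf_eq_card_of_forall_mem_zpowers hu, Nat.card_eq_fintype_card, Fintype.card_units,
        hcardF]
    have h1 := hk (e.symm u)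
    rw [hb, e.apply_symm_apply] at h1
    have hba : a (g ^ k) = b := by rw [haval, hb, e.apply_symm_apply, one_pow, mul_one]
    rw [hba] at h1
    have hb0 : b ≠ 0 := hba ▸ ha _
    have h' : u ^ (2 ^ (k * i g) - 1) = 1 := by
      have h3 : u ^ 2 ^ (k * i g) = u := Units.ext (by
        rw [Units.val_pow_eq_pow_val]; exact mul_left_cancel₀ hb0 h1)
      rwa [← Nat.sub_add_cancel (Nat.one_le_two_pow (n := k * i g)), pow_succ, mul_eq_right] at h3
    exact dvd_of_pow_sub_one_dvd (hord ▸ orderOf_dvd_of_pow_eq_one h')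
  -- commutators are linear
  have hcomm : commutator D ≤ L := by
    rw [commutator_eq_closure, Subgroup.closure_le]
    rintro _ ⟨g, h, rfl⟩ w
    obtain ⟨y, rfl⟩ : ∃ y, (h * g) • y = w := ⟨(h * g)⁻¹ • w, smul_inv_smul _ _⟩
    have key : ∀ y : E, e (⁅g, h⁆ • (h * g) • y) =
        a g * a h ^ 2 ^ i g * (a h * a g ^ 2 ^ i h)⁻¹ * e ((h * g) • y) := by
      intro y
      rw [← mul_smul, show ⁅g, h⁆ * (h * g) = g * h by simp [commutatorElement_def, mul_assoc], hcomp,
        hcomp h g, add_comm (i h) (i g), ← mul_assoc, inv_mul_cancel_right₀]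
      exact mul_ne_zero (ha h) (pow_ne_zero _ (ha g))
    rw [key, haval ⁅g, h⁆, show e.symm (1 : F) = (h * g) • (h * g)⁻¹ • e.symm 1 from
      (smul_inv_smul _ _).symm, key, smul_inv_smul, e.apply_symm_apply, mul_one]
  haveI hLn : L.Normal := ⟨fun l hl g => by
    have : ⁅g, l⁆ * l ∈ L := mul_mem (hcomm (Subgroup.commutator_mem_commutator
      (Subgroup.mem_top g) (Subgroup.mem_top l))) hl
    rwa [commutatorElement_def, inv_mul_cancel_right] at this⟩
  let f : L →* F :=
    { toFun := fun g => a g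
      map_one' := by rw [OneMemClass.coe_one, haval, one_smul, e.apply_symm_apply]
      map_mul' := fun g h => by
        rw [Subgroup.coe_mul, haval ((g : D) * h), mul_smul, g.2, h.2, e.apply_symm_apply, mul_one] }
  have hf : Function.Injective f := fun g h hgh => Subtype.ext (eq_of_smul_eq_smul fun w : E =>
    e.injective (by rw [g.2, h.2]; exact congrArg (· * e w) hgh))
  haveI hLc : IsCyclic L := isCyclic_of_subgroup_isDomain f hf
  haveI : IsMulCommutative L := IsCyclic.isMulCommutative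
  have hLF : L ≤ Cfsg.fittingSubgroup D :=
    Cfsg.Lib.Core.le_fittingSubgroup (Cfsg.Lib.Core.isNilpotent_of_isMulCommutative L)
  have hfpf : ∀ g ∈ L, g ≠ 1 → ∀ w : E, g • w = w → w = 0 := by
    intro g hg hne w hw
    by_contra h0
    refine hne (congrArg Subtype.val (hf (a₁ := ⟨g, hg⟩) (a₂ := 1) ?_))
    rw [map_one]
    have h1 := hg w
    rw [hw] at h1
    exact (mul_eq_right₀ (fun h => h0 (e.injective (h.trans e.map_zero.symm)))).1 h1.symm
  -- the Fitting subgroup is linear
  have hFL : Cfsg.fittingSubgroup D ≤ L ∧ ∀ g : D, (∀ f ∈ L, g * f = f * g) → g ∈ L := by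
    by_cases hn1 : n = 1
    · exact ⟨fun g _ => (hLiff g).2 (hn1 ▸ one_dvd _), fun g _ => (hLiff g).2 (hn1 ▸ one_dvd _)⟩
    obtain ⟨r, hr, hrn, hrdvd, hkey⟩ : ∃ r, r.Prime ∧ ¬ r ∣ n ∧ r ∣ 2 ^ n - 1 ∧
        ∀ j N : ℕ, Odd N → n ∣ N * j → r ∣ 2 ^ j - 1 → n ∣ j := by
      by_cases h6 : n = 6
      · refine ⟨7, by norm_num, by omega, by rw [h6]; norm_num, fun j N hN hNj hj => ?_⟩
        have h := dvd_gcd_sub_one (n := 6) (by norm_num) hj
        have h3 : 3 ∣ j := by
          have hg : Nat.gcd 6 j ∣ 6 := Nat.gcd_dvd_left 6 j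
          have hle := Nat.le_of_dvd (by norm_num) hg
          have hgj := Nat.gcd_dvd_right 6 j
          interval_cases hgc : Nat.gcd 6 j <;> (try (norm_num at h)) <;> (try (norm_num at hg)) <;> omega
        have h2 : 2 ∣ j := (Nat.Coprime.dvd_mul_left (Nat.coprime_two_left.2 hN)).1
          ((by rw [h6]; norm_num : 2 ∣ n).trans hNj)
        rw [h6]
        omega
      obtain ⟨r, hr, hdvd, hmin⟩ := Cfsg.Agent.S2904.result 2 n (by norm_num) (by omega)
        (fun h => h6 h.2) (by
          rintro ⟨-, j, hj⟩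
          rcases j with _ | _ | j
          · norm_num at hj
          · norm_num at hj
          · rw [pow_succ, pow_succ] at hj; omega)
      haveI := Fact.mk hr
      have hr2 : r ≠ 2 := by
        rintro rfl
        have h1 : 2 ∣ 2 ^ n := dvd_pow_self 2 (by omega)
        have := Nat.one_le_two_pow (n := n)
        omega
      refine ⟨r, hr, fun hd => ?_, hdvd, fun j N _ _ hj => ?_⟩
      · have h1 : r ∣ 2 ^ (r - 1) - 1 := (Nat.modEq_iff_dvd' Nat.one_le_two_pow).1
          (Nat.totient_prime hr ▸ Nat.ModEq.pow_totient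
            ((Nat.coprime_primes Nat.prime_two hr).2 (Ne.symm hr2))).symm
        have := Nat.le_of_dvd hn0 hd
        exact hmin (r - 1) (by have := hr.two_le; omega) (by have := hr.two_le; omega) h1
      · have hg := dvd_gcd_sub_one hdvd hj
        have hle := Nat.le_of_dvd hn0 (Nat.gcd_dvd_left n j)
        have hpos : 0 < Nat.gcd n j := Nat.gcd_pos_of_pos_left j hn0
        have : Nat.gcd n j = n := by
          by_contra h
          exact hmin _ hpos (by omega) hg
        exact this ▸ Nat.gcd_dvd_right n j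
    haveI := Fact.mk hr
    have hrD : r ∣ Nat.card D := hrdvd.trans (hcardE ▸ card_sub_one_dvd htrans)
    obtain ⟨x, hx⟩ := exists_prime_orderOf_dvd_card' r hrD
    have hcop : n.Coprime r := ((Nat.Prime.coprime_iff_not_dvd hr).2 hrn).symm
    have hxL : x ∈ L := (hLiff x).2 (hcop.dvd_of_dvd_mul_left
      (hpowL x r (by rw [← hx, pow_orderOf_eq_one]; exact one_mem L)))
    have hfix : ∀ g : D, g * x = x * g → n ∣ i g := by
      intro g hgx
      refine hkey (i g) (orderOf g) (Odd.of_dvd_nat hodd (orderOf_dvd_natCard g))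
        (hpowL g _ (by rw [pow_orderOf_eq_one]; exact one_mem L)) ?_
      have h1 := congrArg (fun d : D => e (d • e.symm 1)) hgx
      simp only [mul_smul] at h1
      rw [hai, hmemL.1 hxL, hmemL.1 hxL, hai, e.apply_symm_apply, one_pow, mul_one, mul_one,
        mul_comm (a x) (a g)] at h1
      have h2 : (a x) ^ 2 ^ i g = a x := mul_left_cancel₀ (ha g) h1
      have h3 : a x ^ (2 ^ i g - 1) = 1 := by
        rw [← Nat.sub_add_cancel (Nat.one_le_two_pow (n := i g)), pow_succ] at h2
        exact (mul_eq_right₀ (ha x)).1 h2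
      have h4 := orderOf_dvd_of_pow_eq_one h3
      rwa [show a x = f ⟨x, hxL⟩ from rfl, orderOf_injective f hf, Subgroup.orderOf_mk, hx] at h4
    have hxF := hLF hxL
    haveI := Cfsg.Lib.Core.fittingSubgroup_isNilpotent D
    refine ⟨?_, fun g hg => (hLiff g).2 (hfix g (hg x hxL))⟩
    intro y hy
    obtain ⟨s, b, hb, hsb⟩ := Nat.exists_eq_pow_mul_and_not_dvd (orderOf_pos y).ne' r hr.one_lt.ne'
    set y' := y ^ r ^ s with hy'
    have hy'ord : orderOf y' = b := by
      rw [hy', orderOf_pow_of_dvd (pow_ne_zero _ hr.ne_zero) (hsb ▸ dvd_mul_right _ _), hsb,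
        Nat.mul_div_cancel_left _ (pow_pos hr.pos _)]
    have hcm : y' * x = x * y' := congrArg Subtype.val
      (Cfsg.Lib.PGroup.commute_of_coprime_orderOf
        (⟨y', pow_mem hy _⟩ : Cfsg.fittingSubgroup D) ⟨x, hxF⟩ (by
          rw [Subgroup.orderOf_mk, Subgroup.orderOf_mk, hy'ord, hx]
          exact ((Nat.Prime.coprime_iff_not_dvd hr).2 hb).symm)).eq
    have h5 : n ∣ r ^ s * i y := hpowL y (r ^ s) ((hLiff y').2 (hfix y' hcm))
    exact (hLiff y).2 ((hcop.pow_right s).dvd_of_dvd_mul_left h5)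
  have heq : Cfsg.fittingSubgroup D = L := le_antisymm hFL.1 hLF
  refine ⟨heq ▸ hLc, fun g hg => hfpf g (hFL.1 hg), hcomm.trans hLF,
    fun g hg => hLF (hFL.2 g fun f hf => hg f (hLF hf)), n, ?_⟩
  -- the Galois part is additive
  have hadd : ∀ g h : D, ((i (g * h) : ℕ) : ZMod n) = i g + i h := by
    intro g h
    obtain ⟨u, hu⟩ := IsCyclic.exists_generator (α := Fˣ)
    have hord : orderOf u = 2 ^ n - 1 := by
      rw [orderOf_eq_card_of_forall_mem_zpowers hu, Nat.card_eq_fintype_card, Fintype.card_units,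
        hcardF]
    have h1 := hcomp g h (e.symm u)
    have h2 := hcomp g h (e.symm 1)
    rw [hai, e.apply_symm_apply] at h1 h2
    rw [one_pow, mul_one, one_pow, mul_one] at h2
    rw [← h2] at h1
    have h3 : u ^ 2 ^ i (g * h) = u ^ 2 ^ (i h + i g) := Units.ext (by
      rw [Units.val_pow_eq_pow_val, Units.val_pow_eq_pow_val]; exact mul_left_cancel₀ (ha _) h1)
    have key : ∀ A B : ℕ, A ≤ B → u ^ 2 ^ A = u ^ 2 ^ B → (A : ZMod n) = B := by
      intro A B hAB he
      obtain ⟨j, rfl⟩ := Nat.exists_eq_add_of_le hAB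
      have h4 := (pow_eq_pow_iff_modEq.1 he)
      rw [hord] at h4
      have h5 : (2 ^ n - 1) ∣ 2 ^ A * (2 ^ j - 1) := by
        rw [Nat.mul_sub, mul_one, ← pow_add]
        exact (Nat.modEq_iff_dvd' (Nat.pow_le_pow_right (by norm_num) (by omega))).1 h4
      have hco : Nat.Coprime (2 ^ n - 1) (2 ^ A) := by
        refine Nat.Coprime.pow_right _ (Nat.coprime_two_right.2 ?_)
        exact Nat.Even.sub_odd Nat.one_le_two_pow (Nat.even_pow.2 ⟨even_two, hn0.ne'⟩) odd_one
      have h6 := dvd_of_pow_sub_one_dvd (hco.dvd_of_dvd_mul_left h5)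
      rw [Nat.cast_add, (ZMod.natCast_eq_zero_iff j n).2 h6, add_zero]
    have h7 : ((i (g * h) : ℕ) : ZMod n) = ((i h + i g : ℕ) : ZMod n) := by
      rcases le_total (i (g * h)) (i h + i g) with hl | hl
      · exact key _ _ hl h3
      · exact (key _ _ hl h3.symm).symm
    rw [h7, Nat.cast_add, add_comm]
  refine ⟨MonoidHom.mk' (fun g => Multiplicative.ofAdd ((i g : ℕ) : ZMod n)) fun g h => by
    rw [hadd, ofAdd_add], ?_⟩
  rw [heq]
  ext g
  rw [MonoidHom.mem_ker, hLiff]
  simp [ZMod.natCast_eq_zero_iff]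

theorem fitting_of_transitive {D : Type u} {E : Type v} [Group D] [Fintype D] [AddCommGroup E]
    [Finite E] [DistribMulAction D E] [FaithfulSMul D E] [Nontrivial E]
    (hodd : Odd (Nat.card D)) (hE : ∀ w : E, 2 • w = 0)
    (htrans : ∀ a b : E, a ≠ 0 → b ≠ 0 → ∃ d : D, d • a = b) :
    IsCyclic (Cfsg.fittingSubgroup D) ∧
      (∀ g ∈ Cfsg.fittingSubgroup D, g ≠ 1 → ∀ w : E, g • w = w → w = 0) ∧
      commutator D ≤ Cfsg.fittingSubgroup D :=
  let h := structure_of_transitive hodd hE htrans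
  ⟨h.1, h.2.1, h.2.2.1⟩

end Cfsg.Lib.OddTrans
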