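import Cfsg.Agent.Lib.OddTrans.Orbit
import Cfsg.Agent.Lib.Char.Central
import Cfsg.Agent.Lib.Char.Formulas
import Mathlib.GroupTheory.SpecificGroups.Cyclic

/-!
# A faithful character of degree `(r - 1) / 2` in a group of odd order

A group of odd order with an abelian centralizer of a subgroup `R` of order `r` (`r` dividing the
order once), minimal with `R` not normal, has no faithful irreducible character of degree
`(r - 1) / 2`: the norms of `χ χ` and of `χ conj χ` agree, which the constituents forbid.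
-/

set_option autoImplicit false
set_option linter.unusedSectionVars false
set_option linter.style.haveILetI false

namespace Cfsg.Lib.OddTrans

open Cfsg
open scoped ComplexConjugate

universe u

variable {G : Type u} [Group G] [Fintype G]

noncomputable local instance (priority := high) fintypeSubgroupHalf {A : Type u}
    [Group A] [Fintype A] (H : Subgroup A) : Fintype H := Fintype.ofFinite H

local notation "C[" R "]" => Subgroup.centralizer (SetLike.coe R)

/-- A minimal counterexample. -/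
structure HalfSetting (r m : ℕ) (R : Subgroup G) (χ : G → ℂ) : Prop where
  card : Nat.card R = r
  two_mul : r = 2 * m + 1
  one_lt : 1 < m
  m_odd : Odd m
  odd : Odd (Nat.card G)
  sylow : ¬ r ^ 2 ∣ Nat.card G
  notNormal : ¬ R.Normal
  maxi : ∀ H : Subgroup G, H ≠ ⊤ → R ≤ H → H ≤ Subgroup.normalizer (R : Set G)
  comm : ∀ a b : C[R], a * b = b * a
  irr : IsIrrCharacter G χ
  deg : χ 1 = m
  faith : ∀ g : G, χ g = χ 1 → g = 1
  scal : ∀ (g : G) (ζ : ℂ), χ g = m * ζ → ‖ζ‖ = 1 → ζ ^ 3 = 1

theorem mem_normalizer_of_le {r : ℕ} [hr : Fact r.Prime] {R : Subgroup G} (hR : Nat.card R = r)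
    (hsq : ¬ r ^ 2 ∣ Nat.card G) {x : G}
    (h : R.map (MulAut.conj x).toMonoidHom ≤ Subgroup.normalizer (R : Set G)) :
    x ∈ Subgroup.normalizer (R : Set G) := by
  set Q := R.map (MulAut.conj x).toMonoidHom with hQ
  have hQc : Nat.card Q = r := by
    rw [hQ, Subgroup.card_map_of_injective (MulAut.conj x).injective, hR]
  have hsup : IsPGroup r (Q ⊔ R : Subgroup G) :=
    (IsPGroup.of_card (n := 1) (by rw [hQc, pow_one])).to_sup_of_normal_right'
      (IsPGroup.of_card (n := 1) (by rw [hR, pow_one])) h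
  obtain ⟨k, hk⟩ := hsup.exists_card_eq
  have hk1 : k ≤ 1 := by
    by_contra hc
    exact hsq (((pow_dvd_pow r (by omega : 2 ≤ k))).trans (hk ▸ Subgroup.card_subgroup_dvd_card _))
  have hle : Nat.card (Q ⊔ R : Subgroup G) ≤ r :=
    hk ▸ (Nat.pow_le_pow_right hr.out.one_lt.le hk1).trans (pow_one r).le
  have e1 : Q = Q ⊔ R := Subgroup.eq_of_le_of_card_ge le_sup_left (hQc ▸ hle)
  have e2 : R = Q ⊔ R := Subgroup.eq_of_le_of_card_ge le_sup_right (hR ▸ hle)
  have hQR : Q = R := e1.trans e2.symm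
  refine Subgroup.mem_normalizer_iff.2 fun z => ⟨fun hz => hQR ▸ ⟨z, hz, rfl⟩, fun hz => ?_⟩
  rw [← hQR] at hz
  obtain ⟨w, hw, e⟩ := hz
  exact (MulAut.conj x).injective e ▸ hw

variable {r m : ℕ} [hr : Fact r.Prime] {R : Subgroup G} {χ : G → ℂ} (hS : HalfSetting r m R χ)

include hS

theorem HalfSetting.char : IsCharacter G χ := hS.irr.isCharacter

theorem HalfSetting.ne_two : r ≠ 2 := by have := hS.two_mul; omega

theorem HalfSetting.inf_center : R ⊓ Subgroup.center G = ⊥ := by
  refine eq_bot_iff.2 fun z hz => ?_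
  by_contra h1
  refine hS.notNormal ⟨fun w hw g => ?_⟩
  obtain ⟨k, hk⟩ := mem_zpowers_of_prime_card (g := (⟨z, hz.1⟩ : R)) (g' := (⟨w, hw⟩ : R)) hS.card
    (fun e => h1 (congrArg Subtype.val e))
  have : w = z ^ k := (congrArg Subtype.val hk).symm
  rw [Subgroup.mem_center_iff.1 (this ▸ (Subgroup.center G).zpow_mem hz.2 k) g, mul_inv_cancel_right]
  exact hw

theorem HalfSetting.ti {c x : G} (hc : c ∈ C[R]) (hcZ : c ∉ Subgroup.center G)
    (hx : x⁻¹ * c * x ∈ C[R]) : x ∈ Subgroup.normalizer (R : Set G) := by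
  have hne : Subgroup.centralizer ({c} : Set G) ≠ ⊤ := fun h => hcZ
    (Subgroup.mem_center_iff.2 fun g =>
      Subgroup.mem_centralizer_singleton_iff.1 (h ▸ Subgroup.mem_top g))
  have hle := hS.maxi _ hne fun z hz => Subgroup.mem_centralizer_singleton_iff.2
    (Subgroup.mem_centralizer_iff.1 hc z hz)
  refine mem_normalizer_of_le hS.card hS.sylow (le_trans ?_ hle)
  rintro _ ⟨z, hz, rfl⟩
  refine Subgroup.mem_centralizer_singleton_iff.2 ?_
  have e := Subgroup.mem_centralizer_iff.1 hx z hz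
  calc x * z * x⁻¹ * c = x * (z * (x⁻¹ * c * x)) * x⁻¹ := by group
    _ = x * (x⁻¹ * c * x * z) * x⁻¹ := by rw [e]
    _ = c * (x * z * x⁻¹) := by group

theorem HalfSetting.inertial : (C[R]).relIndex (Subgroup.normalizer (R : Set G)) = m := by
  set E := (C[R]).relIndex (Subgroup.normalizer (R : Set G)) with hE
  haveI : IsCyclic R := isCyclic_of_prime_card hS.card
  have hdvd : E ∣ r - 1 := by
    have key := Subgroup.card_dvd_of_injective _ (QuotientGroup.kerLift_injective R.normalizerMonoidHom)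
    rw [Subgroup.normalizerMonoidHom_ker, ← Subgroup.index, ← Subgroup.relIndex,
      IsCyclic.card_mulAut, hS.card, Nat.totient_prime hr.out] at key
    exact key
  have hEodd : Odd E := by
    refine Odd.of_dvd_nat hS.odd ?_
    exact ((Subgroup.index_dvd_card _).trans (Subgroup.card_subgroup_dvd_card _))
  have hEm : E ∣ m := by
    have h2 : r - 1 = 2 * m := by have := hS.two_mul; omega
    rw [h2] at hdvd
    exact (Nat.Coprime.dvd_mul_left (Nat.coprime_two_right.2 hEodd)).1 hdvd
  by_contra hne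
  have h3 : 3 * E ≤ m := by
    obtain ⟨k, hk⟩ := hEm
    have hko : Odd k := (Nat.odd_mul.1 (hk ▸ hS.m_odd)).2
    obtain ⟨j, rfl⟩ := hko
    rcases Nat.eq_zero_or_pos j with rfl | hj
    · exact absurd (by omega) hne
    · calc 3 * E = E * 3 := mul_comm _ _
        _ ≤ E * (2 * j + 1) := Nat.mul_le_mul_left _ (by omega)
        _ = m := hk.symm
  set N := Subgroup.normalizer (R : Set G) with hN
  haveI : Fintype (G ⧸ N) := Fintype.ofFinite _
  set w : G → ℝ := fun g => ‖χ g‖ ^ 2 with hw
  have hwc : ∀ x g : G, w (x * g * x⁻¹) = w g := fun x g => by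
    simp only [hw, hS.irr.isClassFunction g x]
  have hG : ∑ g, w g = (Nat.card G : ℝ) := by
    have h1 := Char.classInner_irr_self hS.irr
    rw [Char.classInner_self, Complex.ofReal_eq_one,
      inv_mul_eq_one₀ (by exact_mod_cast Nat.card_pos.ne')] at h1
    exact h1.symm
  have hC : (Nat.card C[R] : ℝ) * m ≤ ∑ k : C[R], w k := by
    have h1 := norm_mu hS.comm hS.char
    rw [Char.classInner_self] at h1
    have h2 : ((Nat.card C[R] : ℝ))⁻¹ * ∑ k : C[R], w k =
        ((∑ η : LinC R, mu R χ η ^ 2 : ℕ) : ℝ) := by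
      apply Complex.ofReal_injective
      rw [Complex.ofReal_natCast, ← h1]
    have h3 : m ≤ ∑ η : LinC R, mu R χ η ^ 2 :=
      (sum_mu hS.comm hS.char hS.deg).symm.le.trans
        (Finset.sum_le_sum fun η _ => Nat.le_self_pow two_ne_zero _)
    calc (Nat.card C[R] : ℝ) * m ≤ Nat.card C[R] * ((∑ η : LinC R, mu R χ η ^ 2 : ℕ) : ℝ) :=
          mul_le_mul_of_nonneg_left (by exact_mod_cast h3) (Nat.cast_nonneg _)
      _ = _ := by rw [← h2, mul_inv_cancel_left₀ (by exact_mod_cast Nat.card_pos.ne')]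
  classical
  set A := Finset.univ.filter (fun k : C[R] => (k : G) ∉ Subgroup.center G) with hA
  set B := Finset.univ.filter (fun k : C[R] => (k : G) ∈ Subgroup.center G) with hB
  have hBcard : B.card = Nat.card (Subgroup.center G) := by
    rw [hB, ← Fintype.card_subtype, ← Nat.card_eq_fintype_card]
    exact Nat.card_congr ⟨fun k => ⟨k.1.1, k.2⟩,
      fun z => ⟨⟨z.1, Subgroup.center_le_centralizer _ z.2⟩, z.2⟩, fun _ => rfl, fun _ => rfl⟩
  have hBw : ∑ k ∈ B, w k ≤ (Nat.card (Subgroup.center G) : ℝ) * (m : ℝ) ^ 2 := by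
    refine (Finset.sum_le_card_nsmul _ _ ((m : ℝ) ^ 2) fun k _ => ?_).trans
      (le_of_eq (by rw [hBcard, nsmul_eq_mul]))
    have := hS.char.norm_le (k : G)
    rw [hS.deg, Complex.natCast_re] at this
    exact pow_le_pow_left₀ (norm_nonneg _) this 2
  have hsplit : ∑ k ∈ B, w k + ∑ k ∈ A, w k = ∑ k : C[R], w k :=
    Finset.sum_filter_add_sum_filter_not _ _ _
  set f : (G ⧸ N) × C[R] → G := fun q => q.1.out * (q.2 : G) * q.1.out⁻¹ with hf
  have hinj : Set.InjOn f ((Finset.univ ×ˢ A : Finset ((G ⧸ N) × C[R])) : Set _) := by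
    rintro ⟨x, k⟩ hk ⟨y, l⟩ hl he
    rw [Finset.mem_coe, Finset.mem_product] at hk hl
    simp only [hf] at he
    have hxy : y = x := by
      rw [← QuotientGroup.out_eq' y, ← QuotientGroup.out_eq' x]
      refine QuotientGroup.eq.2 (hS.ti l.2 (Finset.mem_filter.1 hl.2).2 ?_)
      have : (y.out⁻¹ * x.out)⁻¹ * (l : G) * (y.out⁻¹ * x.out) = k := by
        calc (y.out⁻¹ * x.out)⁻¹ * (l : G) * (y.out⁻¹ * x.out)
            = x.out⁻¹ * (y.out * l * y.out⁻¹) * x.out := by group
          _ = k := by rw [← he]; group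
      rw [this]
      exact k.2
    subst hxy
    rw [mul_left_inj, mul_right_inj] at he
    exact Prod.ext rfl (Subtype.ext he)
  have hle : ((N.index : ℕ) : ℝ) * ∑ k ∈ A, w k ≤ (Nat.card G : ℝ) := by
    have h1 : ∑ g ∈ (Finset.univ ×ˢ A).image f, w g = ((N.index : ℕ) : ℝ) * ∑ k ∈ A, w k := by
      rw [Finset.sum_image hinj, Finset.sum_product]
      simp only [hf, hwc]
      rw [Finset.sum_const, Finset.card_univ, nsmul_eq_mul, Subgroup.index, Nat.card_eq_fintype_card]
    rw [← h1, ← hG]
    exact Finset.sum_le_univ_sum_of_nonneg fun g => by positivity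
  have hcardG : Nat.card G = E * Nat.card C[R] * N.index := by
    rw [← (C[R]).card_mul_index, hE, hN,
      ← Subgroup.relIndex_mul_index (Subgroup.centralizer_le_normalizer (R : Set G))]
    ring
  have hi : (0 : ℝ) < ((N.index : ℕ) : ℝ) := by
    exact_mod_cast Nat.pos_of_ne_zero Subgroup.index_ne_zero_of_finite
  rw [hcardG] at hle
  push_cast at hle
  have h5 : (∑ k ∈ A, w k) ≤ E * (Nat.card C[R] : ℝ) :=
    le_of_mul_le_mul_left (by linarith [hle]) hi
  have h6 : (Nat.card C[R] : ℝ) * m ≤ E * (Nat.card C[R] : ℝ) +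
      (Nat.card (Subgroup.center G) : ℝ) * (m : ℝ) ^ 2 := by linarith
  have h7 : Nat.card C[R] * m ≤ E * Nat.card C[R] + Nat.card (Subgroup.center G) * m ^ 2 := by
    exact_mod_cast h6
  -- the centralizer contains `R` times the center
  have h8 : r * Nat.card (Subgroup.center G) ≤ Nat.card C[R] := by
    haveI : IsMulCommutative R := (isCyclic_of_prime_card hS.card).isMulCommutative
    rw [← hS.card, ← Nat.card_prod]
    refine Nat.card_le_card_of_injective
      (fun p : R × Subgroup.center G => (⟨(p.1 : G) * p.2, mul_mem (Subgroup.le_centralizer R p.1.2)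
        (Subgroup.center_le_centralizer _ p.2.2)⟩ : C[R])) ?_
    intro p q h
    have h' : (p.1 : G) * p.2 = q.1 * q.2 := congrArg Subtype.val h
    have hmem : (q.1 : G)⁻¹ * p.1 ∈ R ⊓ Subgroup.center G := by
      refine ⟨R.mul_mem (R.inv_mem q.1.2) p.1.2, ?_⟩
      rw [show (q.1 : G)⁻¹ * p.1 = (q.2 : G) * (p.2 : G)⁻¹ by
        rw [eq_mul_inv_iff_mul_eq, mul_assoc, h', inv_mul_cancel_left]]
      exact (Subgroup.center G).mul_mem q.2.2 ((Subgroup.center G).inv_mem p.2.2)
    rw [hS.inf_center, Subgroup.mem_bot, inv_mul_eq_one] at hmem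
    refine Prod.ext (Subtype.ext hmem.symm) (Subtype.ext ?_)
    rw [hmem] at h'
    exact mul_left_cancel h'
  have hz : 0 < Nat.card (Subgroup.center G) := Nat.card_pos
  have h9 : r * (m - E) ≤ m ^ 2 := by
    refine Nat.le_of_mul_le_mul_right ?_ hz
    calc r * (m - E) * Nat.card (Subgroup.center G)
        = r * Nat.card (Subgroup.center G) * (m - E) := by ring
      _ ≤ Nat.card C[R] * (m - E) := Nat.mul_le_mul_right _ h8
      _ ≤ m ^ 2 * Nat.card (Subgroup.center G) := by
          rw [Nat.mul_sub, mul_comm (Nat.card C[R]) E, mul_comm (m ^ 2)]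
          omega
  have h10 : r * (2 * m) ≤ 3 * m ^ 2 := by
    calc r * (2 * m) ≤ r * (3 * (m - E)) := Nat.mul_le_mul_left _ (by omega)
      _ = 3 * (r * (m - E)) := by ring
      _ ≤ _ := Nat.mul_le_mul_left _ h9
  rw [hS.two_mul] at h10
  have := hS.one_lt
  nlinarith

theorem HalfSetting.card_orb {η : LinC R} (h : NT η) : (orb η).card = m := by
  rw [OddTrans.card_orb hS.card hS.comm h, hS.inertial]

theorem HalfSetting.indicator {f : G → ℂ} (hf : IsCharacter G f) (hd : f 1 = m) {η : LinC R}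
    (hη : NT η) (hmu : mu R f η ≠ 0) :
    (∀ η' ∈ orb η, mu R f η' = 1) ∧ ∀ η', η' ∉ orb η → mu R f η' = 0 := by
  classical
  have hc : ∀ η' ∈ orb η, mu R f η' = mu R f η := fun η' h => by
    obtain ⟨g, rfl⟩ := mem_orb.1 h
    exact mu_twist f hf.isClassFunction η g
  have hsum := sum_mu hS.comm hf hd
  rw [← Finset.sum_add_sum_compl (orb η), Finset.sum_congr rfl hc, Finset.sum_const, smul_eq_mul,
    hS.card_orb hη] at hsum
  have h1 : m ≤ m * mu R f η := Nat.le_mul_of_pos_right m (Nat.pos_of_ne_zero hmu)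
  have hm0 : 0 < m := by have := hS.one_lt; omega
  have he : m * mu R f η = m * 1 := by omega
  have h0 : ∑ η' ∈ (orb η)ᶜ, mu R f η' = 0 := by omega
  refine ⟨fun η' h => (hc η' h).trans (Nat.eq_of_mul_eq_mul_left hm0 he), fun η' h => ?_⟩
  exact Finset.sum_eq_zero_iff.1 h0 η' (Finset.mem_compl.2 h)

theorem HalfSetting.exists_eta : ∃ η : LinC R, NT η ∧ mu R χ η ≠ 0 := by
  by_contra hcon
  push Not at hcon
  obtain ⟨⟨z, hz⟩, hz1⟩ : ∃ z : R, z ≠ 1 := by
    haveI : Nontrivial R := Finite.one_lt_card_iff_nontrivial.1 (hS.card ▸ hr.out.one_lt)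
    exact exists_ne 1
  haveI : IsMulCommutative R := (isCyclic_of_prime_card hS.card).isMulCommutative
  refine hz1 (Subtype.ext (hS.faith z ?_))
  have h := expand hS.comm hS.char (⟨z, Subgroup.le_centralizer R hz⟩ : C[R])
  have h1 := expand hS.comm hS.char (1 : C[R])
  simp only [OneMemClass.coe_one] at h h1
  rw [h, h1]
  refine Finset.sum_congr rfl fun η _ => ?_
  by_cases hη : NT η
  · simp [hcon η hη]
  · rw [NT, not_exists] at hη
    have := hη ⟨z, Subgroup.le_centralizer R hz⟩
    rw [not_and, not_not] at this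
    rw [this hz, map_one]

theorem HalfSetting.center_agree {η η' : LinC R} (h : η' ∈ orb η) {c : C[R]}
    (hc : (c : G) ∈ Subgroup.center G) : η' c = η c := by
  obtain ⟨g, rfl⟩ := mem_orb.1 h
  rw [twist_apply]
  congr 1
  refine Subtype.ext ?_
  rw [conjC_apply, Subgroup.mem_center_iff.1 hc (g : G), mul_inv_cancel_right]

/-- Two linear characters in different orbits that agree on the center are separated by exactly
two irreducible characters. -/
theorem HalfSetting.pair_diff {η η' : LinC R} (hη : NT η) (hη' : NT η')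
    (hZ : ∀ c : C[R], (c : G) ∈ Subgroup.center G → η c = η' c) (hne : η' ∉ orb η) :
    (∑ ψ : IrrCharacter G, ((mu R ψ η : ℤ) - mu R ψ η') ^ 2) = 2 ∧
      ∑ ψ : IrrCharacter G, ((mu R ψ η : ℤ) - mu R ψ η') * charDegree (ψ : G → ℂ) = 0 := by
  classical
  set θ : C[R] → ℂ := (fun c => (η c : ℂ)) - fun c => (η' c : ℂ) with hθ
  set Θ := indFun C[R] θ with hΘ
  have hcoef : ∀ ψ : IrrCharacter G,
      classInner Θ (ψ : G → ℂ) = (((mu R ψ η : ℤ) - mu R ψ η' : ℤ) : ℂ) := by
    intro ψ
    rw [hΘ, Char.classInner_indFun _ _ ψ.2.isClassFunction, hθ, Char.classInner_sub_left,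
      ← Char.classInner_conj_symm (fun h : C[R] => (ψ : G → ℂ) h) (fun c : C[R] => (η c : ℂ)),
      ← Char.classInner_conj_symm (fun h : C[R] => (ψ : G → ℂ) h) (fun c : C[R] => (η' c : ℂ)),
      mu_spec ψ.2.isCharacter, mu_spec ψ.2.isCharacter, Complex.conj_natCast, Complex.conj_natCast]
    push_cast
    rfl
  have hΘc : IsClassFunction G Θ := Char.isClassFunction_indFun _ θ
  have hres : (fun c : C[R] => Θ c) = ((Nat.card C[R] : ℂ))⁻¹ •
      ∑ g : Subgroup.normalizer (R : Set G),
        ((fun c : C[R] => (twist η g c : ℂ)) - fun c => (twist η' g c : ℂ)) := by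
    funext c
    simp only [hΘ, indFun, Pi.smul_apply, Finset.sum_apply, smul_eq_mul, Pi.sub_apply]
    congr 1
    have hz : ∀ x : G, (c : G) ∈ Subgroup.center G → extendByZero C[R] θ (x⁻¹ * c * x) = 0 := by
      intro x hcZ
      have he : x⁻¹ * (c : G) * x = c := by
        rw [Subgroup.mem_center_iff.1 hcZ x⁻¹, inv_mul_cancel_right]
      rw [he, Char.extendByZero_coe, hθ, Pi.sub_apply, hZ c hcZ, sub_self]
    rw [← Fintype.sum_equiv (Equiv.inv G) _ _ fun x => rfl]
    simp only [Equiv.inv_apply, inv_inv]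
    refine (Finset.sum_of_injOn (fun g : Subgroup.normalizer (R : Set G) => (g : G))
      Subtype.val_injective.injOn (fun _ _ => Finset.mem_univ _) ?_ ?_).symm
    · intro x _ hx
      by_cases hcZ : (c : G) ∈ Subgroup.center G
      · simpa using hz x⁻¹ hcZ
      · refine Char.extendByZero_of_notMem _ _ fun hmem => hx ?_
        have := hS.ti c.2 hcZ (x := x⁻¹) (by rwa [inv_inv])
        exact ⟨⟨x, by simpa using inv_mem this⟩, by simp, rfl⟩
    · intro g _
      rw [show (g : G) * c * (g : G)⁻¹ = ((conjC g c : C[R]) : G) from rfl, Char.extendByZero_coe, hθ]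
      rfl
  have hnorm : classInner Θ Θ = 2 := by
    rw [show classInner Θ Θ = classInner θ (fun c : C[R] => Θ c) from
      Char.classInner_indFun _ _ hΘc, hres, Char.classInner_smul_right,
      Char.classInner_sum_right]
    have hterm : ∀ g : Subgroup.normalizer (R : Set G),
        classInner θ ((fun c : C[R] => (twist η g c : ℂ)) - fun c => (twist η' g c : ℂ)) =
          if (g : G) ∈ C[R] then 2 else 0 := by
      intro g
      rw [hθ]
      simp only [Char.classInner_sub_left, Char.classInner_sub_right, linear_inner]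
      have n1 : ¬ η = twist η' g := fun e => hne (mem_orb_symm (mem_orb.2 ⟨g, e.symm⟩))
      have n2 : ¬ η' = twist η g := fun e => hne (mem_orb.2 ⟨g, e.symm⟩)
      rw [if_neg n1, if_neg n2]
      by_cases hg : (g : G) ∈ C[R]
      · rw [if_pos hg, if_pos (twist_of_mem hS.comm η hg).symm,
          if_pos (twist_of_mem hS.comm η' hg).symm]
        norm_num
      · rw [if_neg hg, if_neg fun e => hg (twist_eq_self hS.card hη e.symm),
          if_neg fun e => hg (twist_eq_self hS.card hη' e.symm)]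
        norm_num
    rw [Finset.sum_congr rfl fun g _ => hterm g, Finset.sum_ite, Finset.sum_const_zero, add_zero,
      Finset.sum_const, map_inv₀, Complex.conj_natCast, nsmul_eq_mul]
    have hcard : (Finset.univ.filter fun g : Subgroup.normalizer (R : Set G) => (g : G) ∈ C[R]).card =
        Nat.card C[R] := by
      rw [← Fintype.card_subtype, ← Nat.card_eq_fintype_card]
      exact Nat.card_congr ⟨fun g => ⟨g.1.1, g.2⟩,
        fun c => ⟨⟨c.1, Subgroup.centralizer_le_normalizer _ c.2⟩, c.2⟩, fun _ => rfl, fun _ => rfl⟩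
    rw [hcard, inv_mul_cancel_left₀ (by exact_mod_cast Nat.card_pos.ne')]
  constructor
  · have h := Char.classInner_eq_sum (f' := Θ) hΘc
    simp only [hnorm, hcoef, map_intCast] at h
    have h' : ((∑ ψ : IrrCharacter G, ((mu R ψ η : ℤ) - mu R ψ η') ^ 2 : ℤ) : ℂ) = ((2 : ℤ) : ℂ) := by
      push_cast
      refine Eq.trans ?_ h.symm
      exact Finset.sum_congr rfl fun ψ _ => by push_cast; ring
    exact_mod_cast h'
  · have h := congrFun (Char.eq_sum_classInner hΘc) 1
    simp only [Finset.sum_apply, Pi.smul_apply, smul_eq_mul, hcoef] at h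
    rw [hΘ, Char.indFun_apply_one, hθ, Pi.sub_apply, map_one, map_one, sub_self, mul_zero] at h
    have h' : ((∑ ψ : IrrCharacter G,
        ((mu R ψ η : ℤ) - mu R ψ η') * (charDegree (ψ : G → ℂ) : ℤ) : ℤ) : ℂ) = 0 := by
      push_cast
      refine Eq.trans ?_ h.symm
      exact Finset.sum_congr rfl fun ψ _ => by rw [ψ.2.apply_one_eq_charDegree]; push_cast; ring
    exact_mod_cast h'

end Cfsg.Lib.OddTrans
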