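import Cfsg.Agent.Lib.OddTrans.HalfDegree

/-!
# The minimal configuration of degree `(r - 1) / 2` does not exist

The constituents of `χ χ` are separated by the linear characters of the centralizer, so the norm of
`χ χ` is read off there; the same number is too large for `χ conj χ`.
-/

set_option autoImplicit false
set_option linter.unusedSectionVars false
set_option linter.style.haveILetI false

namespace Cfsg.Lib.OddTrans

open Cfsg
open scoped ComplexConjugate

universe u

variable {G : Type u} [Group G] [Fintype G]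

noncomputable local instance (priority := high) fintypeSubgroupHalfMain {A : Type u}
    [Group A] [Fintype A] (H : Subgroup A) : Fintype H := Fintype.ofFinite H

local notation "C[" R "]" => Subgroup.centralizer (SetLike.coe R)

theorem even_card_ext {C : Type u} [CommGroup C] [Fintype C] (hodd : Odd (Nat.card C))
    (Z R : Subgroup C) (w : Z →* ℂˣ) (ν : C →* ℂˣ) (hν : ∀ z : Z, ν z = w z)
    (hνR : ∀ z : R, ν z = 1) :
    Even (Nat.card {η : C →* ℂˣ // (∀ z : Z, η z = w z) ∧ ∃ z : R, η z ≠ 1}) := by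
  classical
  haveI : Finite (C →* ℂˣ) := Nat.finite_of_card_ne_zero (by
    rw [Char.card_monoidHom_units]; exact Nat.card_pos.ne')
  let res : ∀ H : Subgroup C, (C →* ℂˣ) →* (H →* ℂˣ) := fun H =>
    { toFun := fun η => η.comp H.subtype
      map_one' := rfl
      map_mul' := fun _ _ => rfl }
  have hres : ∀ (H : Subgroup C) (η : C →* ℂˣ) (z : H), res H η z = η z := fun _ _ _ => rfl
  set K₁ := (res Z).ker with hK₁
  set K₂ := (res Z).ker ⊓ (res R).ker with hK₂
  have hcard : ∀ K : Subgroup (C →* ℂˣ), Odd (Nat.card K) := fun K =>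
    Odd.of_dvd_nat hodd (by
      rw [← Char.card_monoidHom_units C]; exact Subgroup.card_subgroup_dvd_card _)
  have e1 : Nat.card {η : C →* ℂˣ // ∀ z : Z, η z = w z} = Nat.card K₁ :=
    Nat.card_congr
      { toFun := fun η => ⟨η.1 * ν⁻¹, MonoidHom.ext fun z => by
          rw [hres, MonoidHom.mul_apply, MonoidHom.inv_apply, η.2, hν, mul_inv_cancel]; rfl⟩
        invFun := fun k => ⟨k.1 * ν, fun z => by
          rw [MonoidHom.mul_apply, hν, show k.1 (z : C) = res Z k.1 z from rfl, k.2]
          exact one_mul _⟩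
        left_inv := fun η => Subtype.ext (MonoidHom.ext fun x => by simp)
        right_inv := fun k => Subtype.ext (MonoidHom.ext fun x => by simp) }
  have e2 : Nat.card {η : C →* ℂˣ // (∀ z : Z, η z = w z) ∧ ∀ z : R, η z = 1} = Nat.card K₂ :=
    Nat.card_congr
      { toFun := fun η => ⟨η.1 * ν⁻¹, MonoidHom.ext fun z => by
            rw [hres, MonoidHom.mul_apply, MonoidHom.inv_apply, η.2.1, hν, mul_inv_cancel]; rfl,
          MonoidHom.ext fun z => by
            rw [hres, MonoidHom.mul_apply, MonoidHom.inv_apply, η.2.2, hνR, mul_inv_cancel]; rfl⟩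
        invFun := fun k => ⟨k.1 * ν, fun z => by
            rw [MonoidHom.mul_apply, hν, show k.1 (z : C) = res Z k.1 z from rfl, k.2.1]
            exact one_mul _,
          fun z => by
            rw [MonoidHom.mul_apply, hνR, show k.1 (z : C) = res R k.1 z from rfl, k.2.2]
            exact one_mul _⟩
        left_inv := fun η => Subtype.ext (MonoidHom.ext fun x => by simp)
        right_inv := fun k => Subtype.ext (MonoidHom.ext fun x => by simp) }
  have e3 : Nat.card {η : C →* ℂˣ // ∀ z : Z, η z = w z} =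
      Nat.card {η : C →* ℂˣ // (∀ z : Z, η z = w z) ∧ ∀ z : R, η z = 1} +
        Nat.card {η : C →* ℂˣ // (∀ z : Z, η z = w z) ∧ ∃ z : R, η z ≠ 1} := by
    haveI : Fintype (C →* ℂˣ) := Fintype.ofFinite _
    simp only [Nat.card_eq_fintype_card, Fintype.card_subtype]
    rw [← Finset.card_filter_add_card_filter_not
      (s := Finset.univ.filter fun η : C →* ℂˣ => ∀ z : Z, η z = w z)
      (fun η => ∀ z : R, η z = 1), Finset.filter_filter, Finset.filter_filter]
    simp only [not_forall, ne_eq]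
  have h1 := hcard K₁
  rw [← e1, e3, Nat.odd_add] at h1
  exact h1.1 (e2 ▸ hcard K₂)

variable {r m : ℕ} [hr : Fact r.Prime] {R : Subgroup G} {χ : G → ℂ} (hS : HalfSetting r m R χ)

include hS in
theorem HalfSetting.absurd : False := by
  classical
  obtain ⟨η₀, hη₀, hmu₀⟩ := hS.exists_eta
  obtain ⟨hO1, hO0⟩ := hS.indicator hS.char hS.deg hη₀ hmu₀
  have hm0 : 0 < m := by have := hS.one_lt; omega
  have hab := hS.comm
  -- the central values are cube roots of unity
  have hχC : ∀ c : C[R], χ c = ∑ η ∈ orb η₀, (η c : ℂ) := by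
    intro c
    rw [expand hab hS.char c, ← Finset.sum_add_sum_compl (orb η₀),
      Finset.sum_eq_zero (s := (orb η₀)ᶜ) (fun η hη => by rw [hO0 η (Finset.mem_compl.1 hη), Nat.cast_zero, zero_mul]),
      add_zero]
    exact Finset.sum_congr rfl fun η hη => by rw [hO1 η hη, Nat.cast_one, one_mul]
  have hcube : ∀ c : C[R], (c : G) ∈ Subgroup.center G → η₀ c ^ 3 = 1 := by
    intro c hc
    refine Units.ext ?_
    rw [Units.val_pow_eq_pow_val, Units.val_one]
    refine hS.scal c _ ?_ (Complex.norm_eq_one_of_pow_eq_one (n := orderOf c) ?_ (orderOf_pos c).ne')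
    · rw [hχC, Finset.sum_congr rfl fun η hη => by rw [hS.center_agree hη hc], Finset.sum_const,
        hS.card_orb hη₀, nsmul_eq_mul]
    · rw [← Units.val_pow_eq_pow_val, ← map_pow, pow_orderOf_eq_one, map_one, Units.val_one]
  -- the conjugate character
  have hbarc : IsCharacter G (fun g => conj (χ g)) := hS.char.conjFn
  let χb : IrrCharacter G := ⟨fun g => conj (χ g), Char.isIrrCharacter_of_norm_one hbarc (by
    have h := congrArg conj (Char.classInner_irr_self hS.irr)
    rw [map_one] at h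
    rw [← h]
    simp [classInner, map_sum, map_mul, mul_comm])⟩
  have hmub : ∀ η : LinC R, mu R (χb : G → ℂ) η = mu R χ η⁻¹ := by
    intro η
    have h := mu_spec χb.2.isCharacter η
    have h2 : classInner (fun c : C[R] => (χb : G → ℂ) c) (fun c : C[R] => (η c : ℂ)) =
        conj (classInner (fun c : C[R] => χ c) (fun c : C[R] => ((η⁻¹ : LinC R) c : ℂ))) := by
      simp only [classInner, map_mul, map_sum, map_inv₀, Complex.conj_natCast, Complex.conj_conj]
      congr 1
      refine Finset.sum_congr rfl fun c _ => ?_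
      have hn : ‖((η c : ℂˣ) : ℂ)‖ = 1 := Complex.norm_eq_one_of_pow_eq_one (n := orderOf c) (by
        rw [← Units.val_pow_eq_pow_val, ← map_pow, pow_orderOf_eq_one, map_one, Units.val_one])
        (orderOf_pos c).ne'
      rw [MonoidHom.inv_apply, Units.val_inv_eq_inv_val, Complex.inv_eq_conj hn]
    rw [h2, mu_spec hS.char, Complex.conj_natCast] at h
    exact_mod_cast h.symm
  set η₁ := η₀⁻¹ with hη₁
  have hη₁NT : NT η₁ := hη₀.inv
  have hbdeg : (χb : G → ℂ) 1 = m := by
    show conj (χ 1) = m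
    rw [hS.deg, Complex.conj_natCast]
  have hb1 : mu R (χb : G → ℂ) η₁ = 1 := by
    rw [hmub, hη₁, show (η₀⁻¹⁻¹ : LinC R) = η₀ from MonoidHom.ext fun x => by simp, hO1 η₀ (self_mem_orb η₀)]
  obtain ⟨hB1, hB0⟩ := hS.indicator χb.2.isCharacter hbdeg hη₁NT (by omega)
  -- products of characters and their expansions
  have hsq : IsCharacter G (χ * χ) := hS.char.mul hS.char
  have hT : IsCharacter G (χ * fun g => conj (χ g)) := hS.char.mul hbarc
  choose c hc using fun ψ : IrrCharacter G => hsq.exists_nat_classInner ψ.2.isCharacter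
  choose d hd using fun ψ : IrrCharacter G => hT.exists_nat_classInner ψ.2.isCharacter
  have hmulin : ∀ (f : G → ℂ) (hf : IsCharacter G f) (k : IrrCharacter G → ℕ),
      (∀ ψ : IrrCharacter G, classInner f (ψ : G → ℂ) = (k ψ : ℂ)) → ∀ η : LinC R,
      mu R f η = ∑ ψ : IrrCharacter G, k ψ * mu R ψ η := by
    intro f hf k hk η
    have h := mu_spec hf η
    have he : (fun x : C[R] => f x) =
        ∑ ψ : IrrCharacter G, (k ψ : ℂ) • (fun x : C[R] => (ψ : G → ℂ) x) := by
      funext x
      have := congrFun (Char.eq_sum_classInner hf.isClassFunction) (x : G)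
      simp only [Finset.sum_apply, Pi.smul_apply, smul_eq_mul, hk] at this ⊢
      exact this
    rw [he, Char.classInner_sum_left, Finset.sum_congr rfl fun ψ _ => by
      rw [Char.classInner_smul_left, mu_spec ψ.2.isCharacter]] at h
    exact_mod_cast h.symm
  have hmuc := hmulin _ hsq c hc
  have hmud := hmulin _ hT d hd
  -- linear constituents of `χ χ` on the centralizer
  have hprod : ∀ η : LinC R, mu R (χ * χ) η ≠ 0 →
      NT η ∧ ∀ x : C[R], (x : G) ∈ Subgroup.center G → η x = η₁ x := by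
    intro η hη
    obtain ⟨a, ha, b, hb, rfl⟩ : ∃ a ∈ orb η₀, ∃ b ∈ orb η₀, η = a * b := by
      by_contra hcon
      push Not at hcon
      refine hη ?_
      have h := mu_spec hsq η
      have he : (fun x : C[R] => (χ * χ) x) =
          ∑ a ∈ orb η₀, ∑ b ∈ orb η₀, fun x : C[R] => (((a * b : LinC R) x : ℂˣ) : ℂ) := by
        funext x
        simp only [Pi.mul_apply, hχC, Finset.sum_apply, MonoidHom.mul_apply, Units.val_mul,
          Finset.sum_mul_sum]
      rw [he, Char.classInner_sum_left, Finset.sum_eq_zero fun a ha => by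
        rw [Char.classInner_sum_left, Finset.sum_eq_zero fun b hb => by
          rw [linear_inner, if_neg (hcon a ha b hb).symm]]] at h
      exact_mod_cast h.symm
    constructor
    · obtain ⟨g, hg⟩ := mem_orb.1 ha
      obtain ⟨g', hg'⟩ := mem_orb.1 hb
      have haNT := hη₀.of_mem_orb ha
      by_contra hnt
      rw [NT, not_exists] at hnt
      obtain ⟨z, hz, hne⟩ := haNT
      have hrest : ∀ x : C[R], (x : G) ∈ R → b x = (a⁻¹ : LinC R) x := by
        intro x hx
        have := hnt x
        rw [not_and, not_not, MonoidHom.mul_apply] at this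
        rw [MonoidHom.inv_apply, ← mul_eq_one_iff_eq_inv, mul_comm]
        exact this hx
      -- `b` and `a⁻¹` agree on `R`, so the conjugating element inverts `R`
      obtain ⟨k, hk⟩ := mem_orb.1 (show b ∈ orb a from
        mem_orb.2 ⟨g⁻¹ * g', by rw [← hg, ← twist_mul, mul_inv_cancel_left, hg']⟩)
      have hodd := hS.odd
      have hkk : (k * k : Subgroup.normalizer (R : Set G)).1 ∈ C[R] := by
        haveI : IsMulCommutative R := (isCyclic_of_prime_card hS.card).isMulCommutative
        refine Subgroup.mem_centralizer_iff.2 fun w hw => ?_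
        have hwC : w ∈ C[R] := Subgroup.le_centralizer R hw
        have h1 : (k : G) * w * (k : G)⁻¹ ∈ R := (Subgroup.mem_normalizer_iff.1 k.2 w).1 hw
        have e1 : a (conjC k (conjC k ⟨w, hwC⟩)) = a ⟨w, hwC⟩ := by
          rw [← twist_apply, hk, hrest _ (show ((conjC k ⟨w, hwC⟩ : C[R]) : G) ∈ R from h1),
            MonoidHom.inv_apply, ← twist_apply, hk, hrest _ hw, MonoidHom.inv_apply, inv_inv]
        have e2 : (k : G) * ((k : G) * w * (k : G)⁻¹) * (k : G)⁻¹ = w := congrArg Subtype.val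
          ((hη₀.of_mem_orb ha).inj hS.card
            (show ((conjC k (conjC k ⟨w, hwC⟩) : C[R]) : G) ∈ R from
              (Subgroup.mem_normalizer_iff.1 k.2 _).1 h1) hw e1)
        calc w * ((k * k : Subgroup.normalizer (R : Set G)) : G)
            = (k : G) * ((k : G) * w * (k : G)⁻¹) * (k : G)⁻¹ * ((k : G) * k) := by rw [e2]; rfl
          _ = ((k * k : Subgroup.normalizer (R : Set G)) : G) * w := by
              rw [Subgroup.coe_mul]; group
      obtain ⟨j, hj⟩ := hodd
      have hkC : (k : G) ∈ C[R] := by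
        have h4 : ((k * k : Subgroup.normalizer (R : Set G)) : G) ^ (j + 1) = (k : G) := by
          rw [Subgroup.coe_mul, ← pow_two, ← pow_mul, show 2 * (j + 1) = Nat.card G + 1 by omega,
            pow_succ, pow_card_eq_one', one_mul]
        exact h4 ▸ pow_mem hkk _
      have hab' : b = a := hk ▸ twist_of_mem hab a hkC
      have := hrest z hz
      rw [hab', MonoidHom.inv_apply, ← mul_eq_one_iff_eq_inv] at this
      refine hne ?_
      have hzr : z ^ r = 1 := by
        apply Subtype.ext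
        rw [SubmonoidClass.coe_pow, ← hS.card]
        exact congrArg Subtype.val (pow_card_eq_one' (x := (⟨z, hz⟩ : R)))
      have h5 := congrArg a hzr
      rwa [map_pow, map_one, hS.two_mul, pow_succ, pow_mul, pow_two, this, one_pow, one_mul] at h5
    · intro x hx
      rw [MonoidHom.mul_apply, hS.center_agree ha hx, hS.center_agree hb hx, hη₁,
        MonoidHom.inv_apply, ← mul_eq_one_iff_eq_inv, ← hcube x hx, pow_three]
      rw [mul_assoc]
  -- every constituent of `χ χ` has degree `m`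
  have hdegodd : ∀ ψ : IrrCharacter G, Odd (charDegree (ψ : G → ℂ)) := fun ψ =>
    Odd.of_dvd_nat hS.odd (Char.degree_dvd_card ψ.2 ψ.2.apply_one_eq_charDegree)
  have hdiffb : ∀ η : LinC R, η ∉ orb η₁ → (mu R (χb : G → ℂ) η : ℤ) - mu R (χb : G → ℂ) η₁ = -1 := by
    intro η h
    rw [hB0 η h, hb1]
    norm_num
  have hdeg' : ∀ ψ : IrrCharacter G, c ψ ≠ 0 → ψ ≠ χb → charDegree (ψ : G → ℂ) = m ∧
      ∃ η : LinC R, NT η ∧ η ∉ orb η₁ ∧ (mu R (ψ : G → ℂ) η : ℤ) - mu R (ψ : G → ℂ) η₁ = 1 := by
    intro ψ hψ hψb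
    -- a linear character at which `ψ` differs from `η₁`
    obtain ⟨η, hηNT, hηZ, hne⟩ : ∃ η : LinC R, NT η ∧
        (∀ x : C[R], (x : G) ∈ Subgroup.center G → η x = η₁ x) ∧
        mu R (ψ : G → ℂ) η ≠ mu R (ψ : G → ℂ) η₁ := by
      by_contra hcon
      push Not at hcon
      set Γ := Finset.univ.filter (fun η : LinC R =>
        NT η ∧ ∀ x : C[R], (x : G) ∈ Subgroup.center G → η x = η₁ x) with hΓ
      have hsum := sum_mu hab ψ.2.isCharacter ψ.2.apply_one_eq_charDegree
      rw [← Finset.sum_add_sum_compl Γ, Finset.sum_eq_zero (s := Γᶜ) (fun η hη => by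
        by_contra h0
        refine Finset.mem_compl.1 hη (Finset.mem_filter.2 ⟨Finset.mem_univ _, hprod η ?_⟩)
        rw [hmuc]
        refine (Finset.sum_pos' (fun _ _ => Nat.zero_le _) ⟨ψ, Finset.mem_univ _, ?_⟩).ne'
        exact Nat.mul_pos (Nat.pos_of_ne_zero hψ) (Nat.pos_of_ne_zero h0)), add_zero,
        Finset.sum_congr rfl (fun η hη => hcon η (Finset.mem_filter.1 hη).2.1
          (Finset.mem_filter.1 hη).2.2), Finset.sum_const, smul_eq_mul] at hsum
      refine (Nat.not_even_iff_odd.2 (hdegodd ψ)) ?_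
      rw [← hsum]
      refine Even.mul_right ?_ _
      letI : CommGroup C[R] := { (inferInstance : Group C[R]) with mul_comm := hab }
      have hodd : Odd (Nat.card C[R]) := Odd.of_dvd_nat hS.odd (Subgroup.card_subgroup_dvd_card _)
      have h3 : ¬ 3 ∣ r := fun h => by
        have := (Nat.prime_dvd_prime_iff_eq Nat.prime_three hr.out).1 h
        have := hS.two_mul
        have := hS.one_lt
        omega
      obtain ⟨j, hj⟩ : ∃ j, r * r = 3 * j + 1 := ⟨r * r / 3, by
        have : r % 3 = 1 ∨ r % 3 = 2 := by omega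
        have h := Nat.mul_mod r r 3
        rcases this with e | e <;> rw [e] at h <;> omega⟩
      have heven := even_card_ext (C := C[R]) hodd ((Subgroup.center G).subgroupOf C[R])
        (R.subgroupOf C[R]) ((η₁ : C[R] →* ℂˣ).comp ((Subgroup.center G).subgroupOf C[R]).subtype)
        (η₁ ^ (r * r))
        (fun z => by
          show η₁ z.1 ^ (r * r) = η₁ z.1
          rw [hj, pow_succ, pow_mul, hη₁, MonoidHom.inv_apply, inv_pow, hcube z.1 z.2, inv_one,
            one_pow, one_mul])
        (fun z => by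
          show η₁ z.1 ^ (r * r) = 1
          rw [pow_mul, ← map_pow, ← hS.card]
          rw [show (z.1 : C[R]) ^ Nat.card R = 1 from Subtype.ext (by
            rw [SubmonoidClass.coe_pow]
            exact congrArg Subtype.val (pow_card_eq_one' (x := (⟨z.1.1, z.2⟩ : R)))), map_one, one_pow])
      rw [hΓ, ← Fintype.card_subtype, ← Nat.card_eq_fintype_card]
      refine Eq.mp (congrArg Even (Nat.card_congr (Equiv.subtypeEquivRight fun η => ?_))) heven
      constructor
      · rintro ⟨h1, z, hz⟩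
        exact ⟨⟨z.1, z.2, hz⟩, fun x hx => h1 ⟨x, hx⟩⟩
      · rintro ⟨⟨z, hz, hzne⟩, h2⟩
        exact ⟨fun x => h2 x.1 x.2, ⟨z, hz⟩, hzne⟩
    have hηO : η ∉ orb η₁ := fun h => hne (by
      obtain ⟨g, rfl⟩ := mem_orb.1 h
      exact mu_twist _ ψ.2.isClassFunction η₁ g)
    obtain ⟨h2, h0⟩ := hS.pair_diff hηNT hη₁NT hηZ (fun h => hηO (mem_orb_symm h))
    have hsub : ∀ φ : IrrCharacter G, φ ≠ χb → φ ≠ ψ →
        ((mu R φ η : ℤ) - mu R φ η₁) = 0 := by
      intro φ h1 h1'
      by_contra hφ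
      have hle : ((mu R χb η : ℤ) - mu R χb η₁) ^ 2 + (((mu R ψ η : ℤ) - mu R ψ η₁) ^ 2 +
          ((mu R φ η : ℤ) - mu R φ η₁) ^ 2) ≤ 2 := by
        rw [← h2]
        calc _ = ∑ x ∈ ({χb, ψ, φ} : Finset (IrrCharacter G)),
              ((mu R x η : ℤ) - mu R x η₁) ^ 2 := by
              rw [Finset.sum_insert (by simp [Ne.symm hψb, Ne.symm h1]),
                Finset.sum_pair (Ne.symm h1')]
          _ ≤ _ := Finset.sum_le_univ_sum_of_nonneg fun x => sq_nonneg _
      rw [hdiffb η hηO] at hle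
      have a1 : 0 < ((mu R ψ η : ℤ) - mu R ψ η₁) ^ 2 :=
        sq_pos_of_ne_zero (sub_ne_zero.2 (by exact_mod_cast hne))
      have a2 : 0 < ((mu R φ η : ℤ) - mu R φ η₁) ^ 2 := sq_pos_of_ne_zero hφ
      omega
    have hpair : ∀ F : IrrCharacter G → ℤ, (∀ φ, φ ≠ χb → φ ≠ ψ → F φ = 0) →
        ∑ φ, F φ = F χb + F ψ := by
      intro F hF
      rw [← Finset.sum_pair (f := F) (Ne.symm hψb)]
      refine (Finset.sum_subset (Finset.subset_univ _) fun φ _ hφ => ?_).symm
      rw [Finset.mem_insert, Finset.mem_singleton, not_or] at hφ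
      exact hF φ hφ.1 hφ.2
    rw [hpair _ fun φ a b => by rw [hsub φ a b]; norm_num, hdiffb η hηO] at h2
    rw [hpair _ fun φ a b => by rw [hsub φ a b, zero_mul], hdiffb η hηO,
      show charDegree (χb : G → ℂ) = m from
        Nat.cast_injective (R := ℂ) (by rw [← χb.2.apply_one_eq_charDegree, hbdeg])] at h0
    have hone : ((mu R ψ η : ℤ) - mu R ψ η₁) = 1 ∨ ((mu R ψ η : ℤ) - mu R ψ η₁) = -1 := by
      have : ((mu R ψ η : ℤ) - mu R ψ η₁) ^ 2 = 1 := by linarith
      exact sq_eq_one_iff.1 this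
    rcases hone with h | h <;> rw [h] at h0
    · exact ⟨by exact_mod_cast (by linarith : (charDegree (ψ : G → ℂ) : ℤ) = m), η, hηNT, hηO, h⟩
    · have : (0 : ℤ) < m := by exact_mod_cast hm0
      have : (0 : ℤ) ≤ (charDegree (ψ : G → ℂ) : ℤ) := Nat.cast_nonneg _
      linarith
  have hdeg : ∀ ψ : IrrCharacter G, c ψ ≠ 0 → charDegree (ψ : G → ℂ) = m := by
    intro ψ hψ
    by_cases hψb : ψ = χb
    · subst hψb
      exact Nat.cast_injective (R := ℂ) (by rw [← χb.2.apply_one_eq_charDegree, hbdeg])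
    · exact (hdeg' ψ hψ hψb).1
  have hz1 : ∀ ψ : IrrCharacter G, c ψ ≠ 0 → ψ ≠ χb → mu R (ψ : G → ℂ) η₁ = 0 := by
    intro ψ hψ hψb
    obtain ⟨hd', η, hNT, hO, h⟩ := hdeg' ψ hψ hψb
    exact (hS.indicator ψ.2.isCharacter (by rw [ψ.2.apply_one_eq_charDegree, hd']) hNT
      (by omega)).2 η₁ fun h' => hO (mem_orb_symm h')
  -- each constituent is supported on one orbit
  have hsupp : ∀ ψ : IrrCharacter G, c ψ ≠ 0 → ∀ η : LinC R, mu R (ψ : G → ℂ) η ≠ 0 →
      NT η ∧ (∀ x : C[R], (x : G) ∈ Subgroup.center G → η x = η₁ x) ∧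
      (∀ η' ∈ orb η, mu R (ψ : G → ℂ) η' = 1) ∧ ∀ η', η' ∉ orb η → mu R (ψ : G → ℂ) η' = 0 := by
    intro ψ hψ η hη
    have hne : mu R (χ * χ) η ≠ 0 := by
      rw [hmuc]
      exact (Finset.sum_pos' (fun _ _ => Nat.zero_le _) ⟨ψ, Finset.mem_univ _,
        Nat.mul_pos (Nat.pos_of_ne_zero hψ) (Nat.pos_of_ne_zero hη)⟩).ne'
    obtain ⟨h1, h2⟩ := hprod η hne
    obtain ⟨h3, h4⟩ := hS.indicator ψ.2.isCharacter
      (by rw [ψ.2.apply_one_eq_charDegree, hdeg ψ hψ]) h1 hη
    exact ⟨h1, h2, h3, h4⟩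
  have hex : ∀ ψ : IrrCharacter G, c ψ ≠ 0 → ∃ η : LinC R, mu R (ψ : G → ℂ) η ≠ 0 := by
    intro ψ hψ
    by_contra hcon
    push Not at hcon
    have := sum_mu hab ψ.2.isCharacter ψ.2.apply_one_eq_charDegree
    rw [Finset.sum_eq_zero fun η _ => hcon η, hdeg ψ hψ] at this
    omega
  have hdisj : ∀ ψ φ : IrrCharacter G, c ψ ≠ 0 → c φ ≠ 0 → ψ ≠ φ → ∀ η : LinC R,
      mu R (ψ : G → ℂ) η ≠ 0 → mu R (φ : G → ℂ) η = 0 := by
    intro ψ φ hψ hφ hψφ η hη
    by_contra hη'
    obtain ⟨hNT, hZ, hψ1, hψ0⟩ := hsupp ψ hψ η hη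
    obtain ⟨-, -, hφ1, hφ0⟩ := hsupp φ hφ η hη'
    by_cases hO : η ∈ orb η₁
    · -- only the conjugate character lives on this orbit
      have hkey : ∀ θ : IrrCharacter G, c θ ≠ 0 → mu R (θ : G → ℂ) η₁ = 1 → θ = χb := by
        intro θ hθ h1
        by_contra hne
        have := hz1 θ hθ hne
        omega
      exact hψφ ((hkey ψ hψ (hψ1 η₁ (mem_orb_symm hO))).trans
        (hkey φ hφ (hφ1 η₁ (mem_orb_symm hO))).symm)
    · obtain ⟨h2, -⟩ := hS.pair_diff hNT hη₁NT hZ (fun h => hO (mem_orb_symm h))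
      have hψz : mu R (ψ : G → ℂ) η₁ = 0 := hψ0 _ fun h => hO (mem_orb_symm h)
      have hφz : mu R (φ : G → ℂ) η₁ = 0 := hφ0 _ fun h => hO (mem_orb_symm h)
      have hψn : ψ ≠ χb := fun e => by rw [e, hb1] at hψz; exact one_ne_zero hψz
      have hφn : φ ≠ χb := fun e => by rw [e, hb1] at hφz; exact one_ne_zero hφz
      have hle : ((mu R χb η : ℤ) - mu R χb η₁) ^ 2 + (((mu R ψ η : ℤ) - mu R ψ η₁) ^ 2 +
          ((mu R φ η : ℤ) - mu R φ η₁) ^ 2) ≤ 2 := by
        rw [← h2]
        calc _ = ∑ x ∈ ({χb, ψ, φ} : Finset (IrrCharacter G)),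
              ((mu R x η : ℤ) - mu R x η₁) ^ 2 := by
              rw [Finset.sum_insert (by simp [Ne.symm hψn, Ne.symm hφn]), Finset.sum_pair hψφ]
          _ ≤ _ := Finset.sum_le_univ_sum_of_nonneg fun x => sq_nonneg _
      rw [hdiffb η hO, hψ1 η (self_mem_orb η), hφ1 η (self_mem_orb η), hψz, hφz] at hle
      norm_num at hle
  -- the norm of `χ χ` on the centralizer
  set S := ∑ ψ : IrrCharacter G, c ψ ^ 2 with hSdef
  have hnormsq : classInner (χ * χ) (χ * χ) = (S : ℂ) := by
    rw [Char.classInner_eq_sum (f' := χ * χ) hsq.isClassFunction, hSdef, Nat.cast_sum]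
    refine Finset.sum_congr rfl fun ψ _ => ?_
    rw [hc ψ, Complex.conj_natCast, Nat.cast_pow, pow_two]
  have hmusq : ∑ η : LinC R, mu R (χ * χ) η ^ 2 = m * S := by
    have h1 : ∀ η : LinC R,
        mu R (χ * χ) η ^ 2 = ∑ ψ : IrrCharacter G, c ψ ^ 2 * mu R (ψ : G → ℂ) η ^ 2 := by
      intro η
      rw [hmuc]
      by_cases h : ∃ ψ₀ : IrrCharacter G, c ψ₀ * mu R (ψ₀ : G → ℂ) η ≠ 0
      · obtain ⟨ψ₀, h₀⟩ := h
        have hz : ∀ ψ : IrrCharacter G, ψ ≠ ψ₀ → c ψ * mu R (ψ : G → ℂ) η = 0 := by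
          intro ψ hne
          by_cases hcψ : c ψ = 0
          · rw [hcψ, zero_mul]
          · rw [hdisj ψ₀ ψ (left_ne_zero_of_mul h₀) hcψ hne.symm η (right_ne_zero_of_mul h₀),
              mul_zero]
        rw [Finset.sum_eq_single ψ₀ (fun ψ _ hne => hz ψ hne) (by simp),
          Finset.sum_eq_single ψ₀ (fun ψ _ hne => by rw [← mul_pow, hz ψ hne, zero_pow two_ne_zero])
            (by simp), mul_pow]
      · push Not at h
        rw [Finset.sum_eq_zero fun ψ _ => h ψ, zero_pow two_ne_zero,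
          Finset.sum_eq_zero fun ψ _ => by rw [← mul_pow, h ψ, zero_pow two_ne_zero]]
    rw [Finset.sum_congr rfl fun η _ => h1 η, Finset.sum_comm, hSdef, Finset.mul_sum]
    refine Finset.sum_congr rfl fun ψ _ => ?_
    rw [← Finset.mul_sum, mul_comm m]
    by_cases hcψ : c ψ = 0
    · rw [hcψ]; simp
    congr 1
    rw [← hdeg ψ hcψ, ← sum_mu hab ψ.2.isCharacter ψ.2.apply_one_eq_charDegree]
    refine Finset.sum_congr rfl fun η _ => ?_
    by_cases h0 : mu R (ψ : G → ℂ) η = 0
    · rw [h0, zero_pow two_ne_zero]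
    · rw [(hsupp ψ hcψ η h0).2.2.1 η (self_mem_orb η), one_pow]
  -- the same numbers for `χ conj χ`
  have hnormT : ∑ ψ : IrrCharacter G, d ψ ^ 2 = S := by
    have h : classInner (χ * fun g => conj (χ g)) (χ * fun g => conj (χ g)) = (S : ℂ) := by
      rw [← hnormsq]
      simp only [classInner, Pi.mul_apply, map_mul, Complex.conj_conj]
      congr 1
      exact Finset.sum_congr rfl fun g _ => by ring
    rw [Char.classInner_eq_sum (f' := χ * fun g => conj (χ g)) hT.isClassFunction] at h
    refine Nat.cast_injective (R := ℂ) ?_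
    rw [← h, Nat.cast_sum]
    refine Finset.sum_congr rfl fun ψ _ => ?_
    rw [hd ψ, Complex.conj_natCast, Nat.cast_pow, pow_two]
  have hmuT : ∑ η : LinC R, mu R (χ * fun g => conj (χ g)) η ^ 2 = m * S := by
    rw [← hmusq]
    refine Nat.cast_injective (R := ℂ) ?_
    rw [← norm_mu hab hT, ← norm_mu hab hsq]
    simp only [classInner, Pi.mul_apply, map_mul, Complex.conj_conj]
    congr 1
    exact Finset.sum_congr rfl fun g _ => by ring
  have hT1 : mu R (χ * fun g => conj (χ g)) 1 = m := by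
    have h := mu_spec hT (1 : LinC R)
    have h' : classInner (fun x : C[R] => (χ * fun g => conj (χ g)) x)
        (fun x : C[R] => (((1 : LinC R) x : ℂˣ) : ℂ)) =
          classInner (fun x : C[R] => χ x) (fun x : C[R] => χ x) := by
      simp [classInner]
    rw [h', norm_mu hab hS.char] at h
    rw [← Nat.cast_injective h, ← Finset.sum_add_sum_compl (orb η₀),
      Finset.sum_congr rfl (fun η hη => by rw [hO1 η hη, one_pow]),
      Finset.sum_eq_zero (s := (orb η₀)ᶜ) (fun η hη => by rw [hO0 η (Finset.mem_compl.1 hη), zero_pow two_ne_zero]),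
      Finset.sum_const, hS.card_orb hη₀, add_zero, smul_eq_mul, mul_one]
  let ψt : IrrCharacter G := ⟨fun _ => 1, Char.isIrrCharacter_one⟩
  have hdt : d ψt = 1 := by
    refine Nat.cast_injective (R := ℂ) ?_
    rw [← hd ψt, Nat.cast_one, ← Char.classInner_irr_self hS.irr]
    simp [classInner, ψt]
  have hlarge : ∀ ψ : IrrCharacter G, ψ ≠ ψt →
      m ≤ ∑ η ∈ Finset.univ.filter (fun η : LinC R => NT η), mu R (ψ : G → ℂ) η ^ 2 := by
    intro ψ hψt
    obtain ⟨η, hNT, hη⟩ : ∃ η : LinC R, NT η ∧ mu R (ψ : G → ℂ) η ≠ 0 := by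
      by_contra hcon
      push Not at hcon
      haveI : IsMulCommutative R := (isCyclic_of_prime_card hS.card).isMulCommutative
      have hRK : R ≤ Char.charKer ψ.2.isCharacter := by
        intro z hz
        rw [Char.mem_charKer]
        have h := expand hab ψ.2.isCharacter (⟨z, Subgroup.le_centralizer R hz⟩ : C[R])
        have h1 := expand hab ψ.2.isCharacter (1 : C[R])
        simp only [OneMemClass.coe_one] at h h1
        rw [h, h1]
        refine Finset.sum_congr rfl fun η _ => ?_
        by_cases hη : NT η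
        · rw [hcon η hη, Nat.cast_zero, zero_mul, zero_mul]
        · rw [NT, not_exists] at hη
          have := hη ⟨z, Subgroup.le_centralizer R hz⟩
          rw [not_and, not_not] at this
          rw [this hz, map_one]
      by_cases htop : Char.charKer ψ.2.isCharacter = ⊤
      · refine hψt (Subtype.ext (funext fun g => ?_))
        have hall : ∀ g : G, (ψ : G → ℂ) g = (ψ : G → ℂ) 1 := fun g =>
          (Char.mem_charKer ψ.2.isCharacter).1 (htop ▸ Subgroup.mem_top g)
        have hself := Char.classInner_irr_self ψ.2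
        rw [ψ.2.apply_one_eq_charDegree] at hall
        simp only [classInner, hall, Complex.conj_natCast, Finset.sum_const, Finset.card_univ,
          nsmul_eq_mul, ← Nat.card_eq_fintype_card] at hself
        rw [inv_mul_cancel_left₀ (by exact_mod_cast Nat.card_pos.ne')] at hself
        rw [hall g]
        show ((charDegree (ψ : G → ℂ) : ℕ) : ℂ) = 1
        exact_mod_cast Nat.eq_one_of_mul_eq_one_right (by exact_mod_cast hself :
          charDegree (ψ : G → ℂ) * charDegree (ψ : G → ℂ) = 1)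
      · refine hS.notNormal (Subgroup.normalizer_eq_top_iff.1 ?_)
        refine (Subgroup.eq_top_iff' _).2 fun x => mem_normalizer_of_le hS.card hS.sylow ?_
        refine le_trans ?_ (hS.maxi _ htop hRK)
        rintro _ ⟨z, hz, rfl⟩
        exact (Char.charKer_normal ψ.2.isCharacter).conj_mem z (hRK hz) x
    calc m = (orb η).card • 1 := by rw [hS.card_orb hNT, smul_eq_mul, mul_one]
      _ ≤ ∑ η' ∈ orb η, mu R (ψ : G → ℂ) η' ^ 2 := Finset.card_nsmul_le_sum _ _ _ fun η' h => by
          obtain ⟨g, rfl⟩ := mem_orb.1 h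
          rw [mu_twist _ ψ.2.isClassFunction]
          exact Nat.one_le_pow _ _ (Nat.pos_of_ne_zero hη)
      _ ≤ _ := Finset.sum_le_sum_of_subset fun η' h =>
          Finset.mem_filter.2 ⟨Finset.mem_univ _, hNT.of_mem_orb h⟩
  have hmain : m ^ 2 + m * (∑ ψ ∈ Finset.univ.erase ψt, d ψ ^ 2) ≤ m * S := by
    rw [← hmuT, ← Finset.add_sum_erase _ _ (Finset.mem_univ (1 : LinC R)), hT1]
    refine Nat.add_le_add_left ?_ _
    calc m * (∑ ψ ∈ Finset.univ.erase ψt, d ψ ^ 2)
        ≤ ∑ ψ ∈ Finset.univ.erase ψt, d ψ ^ 2 *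
            ∑ η ∈ Finset.univ.filter (fun η : LinC R => NT η), mu R (ψ : G → ℂ) η ^ 2 := by
          rw [Finset.mul_sum]
          exact Finset.sum_le_sum fun ψ hψ => by
            rw [mul_comm]; exact Nat.mul_le_mul_left _ (hlarge ψ (Finset.mem_erase.1 hψ).1)
      _ = ∑ η ∈ Finset.univ.filter (fun η : LinC R => NT η), ∑ ψ ∈ Finset.univ.erase ψt,
            (d ψ * mu R (ψ : G → ℂ) η) ^ 2 := by
          simp only [Finset.mul_sum, mul_pow]
          exact Finset.sum_comm
      _ ≤ ∑ η ∈ Finset.univ.filter (fun η : LinC R => NT η),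
            mu R (χ * fun g => conj (χ g)) η ^ 2 := Finset.sum_le_sum fun η _ => by
          rw [hmud]
          exact (Finset.sum_le_sum_of_subset (Finset.subset_univ _)).trans
            (Finset.sum_sq_le_sq_sum_of_nonneg fun ψ _ => Nat.zero_le _)
      _ ≤ _ := by
          refine Finset.sum_le_sum_of_subset fun η hη => Finset.mem_erase.2 ⟨?_, Finset.mem_univ _⟩
          rintro rfl
          obtain ⟨x, -, hx⟩ := (Finset.mem_filter.1 hη).2
          exact hx rfl
  rw [← hnormT, ← Finset.add_sum_erase _ _ (Finset.mem_univ ψt), hdt, mul_add, one_pow, mul_one,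
    add_le_add_iff_right] at hmain
  have := hS.one_lt
  nlinarith

end Cfsg.Lib.OddTrans
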