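import Cfsg.Agent.Lib.Block.GroupRingLift
import Cfsg.Agent.Lib.Block.RegInt
import Cfsg.Agent.Lib.Char.LiftTrace
import Cfsg.Agent.Lib.Char.Constituents

/-!
# The lifted character of a cyclic module in characteristic two

A group `D` of odd order acting transitively on the non-zero vectors of an elementary abelian
two-group `E` has a complex character of degree `dim E` which is invariant under squaring and
has no trivial constituent on a subgroup without non-zero fixed vectors.
-/

set_option autoImplicit false
set_option linter.unusedSectionVars false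
set_option linter.style.haveILetI false

namespace Cfsg.Lib.OddTrans

open Cfsg Cfsg.Lib.Block Module
open scoped MonoidAlgebra ComplexConjugate

universe u v

variable {D : Type u} [Group D] [Fintype D] [DecidableEq D]

/-- Translation by `g` after right multiplication by `a`. -/
def tMat {K : Type*} [CommRing K] (a : D → K) (g : D) : Matrix D D K :=
  Matrix.of fun x y => a (y⁻¹ * g⁻¹ * x)

/-- The product in the group algebra. -/
def gMul {K : Type*} [CommRing K] (a b : D → K) : D → K := fun x => ∑ h, a h * b (h⁻¹ * x)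

theorem tMat_mul {K : Type*} [CommRing K] (a b : D → K) (g h : D) :
    tMat a g * tMat b h = tMat (gMul b a) (g * h) := by
  ext x y
  simp only [tMat, Matrix.mul_apply, Matrix.of_apply, gMul]
  refine Fintype.sum_equiv (Equiv.mulLeft (y⁻¹ * h⁻¹)) _ _ fun z => ?_
  rw [Equiv.coe_mulLeft, mul_comm]
  congr 2
  group

theorem tMat_map {K L : Type*} [CommRing K] [CommRing L] (φ : K →+* L) (a : D → K) (g : D) :
    φ.mapMatrix (tMat a g) = tMat (fun x => φ (a x)) g := by
  ext x y
  simp [tMat]

/-- The rank of an idempotent matrix is not changed by a homomorphism of fields. -/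
theorem finrank_range_map {K L : Type*} [Field K] [Field L] (φ : K →+* L) {ι : Type*} [Fintype ι]
    [DecidableEq ι] {P : Matrix ι ι K} (hP : P * P = P) :
    finrank L (LinearMap.range (Matrix.toLin' (φ.mapMatrix P))) =
      finrank K (LinearMap.range (Matrix.toLin' P)) := by
  set f := Matrix.toLin' P with hf
  set d := finrank K (LinearMap.range f) with hd
  let b : Basis (Fin d) K (LinearMap.range f) := Module.finBasis K _
  let A : Matrix ι (Fin d) K := LinearMap.toMatrix b (Pi.basisFun K ι) (LinearMap.range f).subtype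
  let B : Matrix (Fin d) ι K := LinearMap.toMatrix (Pi.basisFun K ι) b f.rangeRestrict
  have hAB : A * B = P := by
    rw [← LinearMap.toMatrix_comp, LinearMap.subtype_comp_codRestrict, LinearMap.toMatrix_eq_toMatrix',
      hf, LinearMap.toMatrix'_toLin']
  have hBA : B * A = 1 := by
    rw [← LinearMap.toMatrix_comp]
    have : f.rangeRestrict.comp (LinearMap.range f).subtype = LinearMap.id := by
      ext ⟨x, y, rfl⟩
      have h2 : f (f y) = f y := by
        rw [hf, Matrix.toLin'_apply, Matrix.toLin'_apply, Matrix.mulVec_mulVec, hP]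
      simpa using congrFun h2 _
    rw [this, LinearMap.toMatrix_id]
  have hBA' : B.map φ * A.map φ = 1 := by
    rw [← Matrix.map_mul, hBA, Matrix.map_one _ (map_zero φ) (map_one φ)]
  rw [show φ.mapMatrix P = A.map φ * B.map φ by rw [RingHom.mapMatrix_apply, ← hAB, Matrix.map_mul],
    Matrix.toLin'_mul]
  have hinj : Function.Injective (Matrix.toLin' (A.map φ)) := fun x y h => by
    have := congrArg (Matrix.toLin' (B.map φ)) h
    rwa [← LinearMap.comp_apply, ← LinearMap.comp_apply, ← Matrix.toLin'_mul, hBA',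
      Matrix.toLin'_one, LinearMap.id_apply, LinearMap.id_apply] at this
  have hsurj : Function.Surjective (Matrix.toLin' (B.map φ)) := fun x =>
    ⟨Matrix.toLin' (A.map φ) x, by
      rw [← LinearMap.comp_apply, ← Matrix.toLin'_mul, hBA', Matrix.toLin'_one, LinearMap.id_apply]⟩
  rw [LinearMap.range_comp_of_range_eq_top _ (LinearMap.range_eq_top.2 hsurj),
    LinearMap.finrank_range_of_inj hinj, Module.finrank_fintype_fun_eq_card, Fintype.card_fin]

/-- The averaged idempotent attached to a linear character. -/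
theorem avg_idem {K : Type*} [CommRing K] {a : D → K} (ha : gMul a a = a) (H : Subgroup D)
    [Fintype H] (μ : H →* K) {c : K} (hc : c * (Fintype.card H : K) = 1) :
    (c • ∑ h : H, μ h • tMat a (h : D)) * (c • ∑ h : H, μ h • tMat a (h : D)) =
      c • ∑ h : H, μ h • tMat a (h : D) := by
  rw [smul_mul_smul_comm, Finset.sum_mul]
  have h1 : ∀ h : H, μ h • tMat a (h : D) * ∑ k : H, μ k • tMat a (k : D) =
      ∑ j : H, μ j • tMat a (j : D) := by
    intro h
    rw [Finset.mul_sum]
    refine Fintype.sum_equiv (Equiv.mulLeft h) _ _ fun k => ?_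
    rw [smul_mul_smul_comm, tMat_mul, ha, Equiv.coe_mulLeft, map_mul, Subgroup.coe_mul]
  rw [Finset.sum_congr rfl fun h _ => h1 h, Finset.sum_const, Finset.card_univ,
    ← Nat.cast_smul_eq_nsmul K, smul_smul, mul_assoc, hc, mul_one]

open Classical in
/-- A complex character lifting the module `E`. -/
theorem exists_character {E : Type v} [AddCommGroup E] [Finite E] [DistribMulAction D E]
    (hodd : Odd (Nat.card D)) (hE : ∀ w : E, 2 • w = 0) (v₀ : E)
    (hgen : ∀ w : E, w ≠ 0 → ∃ g : D, g • v₀ = w) :
    ∃ (n : ℕ) (χ : D → ℂ), IsCharacter D χ ∧ Nat.card E = 2 ^ n ∧ χ 1 = n ∧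
      (∀ g, χ (g * g) = χ g) ∧
      ∀ (H : Subgroup D) [Fintype H], (∀ w : E, (∀ h ∈ H, h • w = w) → w = 0) →
        ∑ h : H, χ h = 0 := by
  haveI : Fact (Nat.Prime 2) := ⟨Nat.prime_two⟩
  letI : Module (ZMod 2) E := AddCommGroup.zmodModule hE
  -- the module map and its equivariant section
  let F : (D → ZMod 2) →ₗ[ZMod 2] E := Fintype.linearCombination (ZMod 2) fun x : D => x • v₀
  have hF : ∀ w, F w = ∑ x, w x • (x • v₀) := fun w => Fintype.linearCombination_apply _ _ _
  have hFs : Function.Surjective F := by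
    intro w
    by_cases hw : w = 0
    · exact ⟨0, by rw [map_zero, hw]⟩
    obtain ⟨g, hg⟩ := hgen w hw
    refine ⟨Pi.single g 1, ?_⟩
    rw [hF, Finset.sum_eq_single g (fun x _ hx => by rw [Pi.single_eq_of_ne hx, zero_smul]) (by simp),
      Pi.single_eq_same, one_smul, hg]
  obtain ⟨s₀, hs₀⟩ := F.exists_rightInverse_of_surjective (LinearMap.range_eq_top.2 hFs)
  let L : D → E →ₗ[ZMod 2] E := fun g => (DistribMulAction.toAddMonoidHom E g).toZModLinearMap 2
  have hL : ∀ g (w : E), L g w = g • w := fun _ _ => rfl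
  let s : E →ₗ[ZMod 2] (D → ZMod 2) :=
    { toFun := fun w z => ∑ g : D, s₀ (g⁻¹ • w) (g⁻¹ * z)
      map_add' := fun a b => funext fun z => by
        simp [smul_add, Finset.sum_add_distrib]
      map_smul' := fun c a => funext fun z => by
        simp only [RingHom.id_apply, Pi.smul_apply, smul_eq_mul, Finset.mul_sum]
        refine Finset.sum_congr rfl fun g _ => ?_
        rw [← hL, map_smul, hL, map_smul, Pi.smul_apply, smul_eq_mul] }
  have hs : ∀ w z, s w z = ∑ g : D, s₀ (g⁻¹ • w) (g⁻¹ * z) := fun _ _ => rfl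
  have hseq : ∀ (x : D) (w : E) (z : D), s (x • w) (x * z) = s w z := by
    intro x w z
    rw [hs, hs]
    refine (Fintype.sum_equiv (Equiv.mulLeft x) _ _ fun g => ?_).symm
    rw [Equiv.coe_mulLeft, mul_inv_rev, smul_smul, inv_mul_cancel_right, mul_assoc,
      inv_mul_cancel_left]
  have hFsec : ∀ w, F (s w) = w := by
    intro w
    rw [hF]
    simp only [hs, Finset.sum_smul]
    rw [Finset.sum_comm]
    have h1 : ∀ g : D, (∑ z : D, s₀ (g⁻¹ • w) (g⁻¹ * z) • (z • v₀)) = w := by
      intro g
      rw [← Fintype.sum_equiv (Equiv.mulLeft g) (fun y => s₀ (g⁻¹ • w) y • ((g * y) • v₀)) _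
        fun y => by rw [Equiv.coe_mulLeft, inv_mul_cancel_left]]
      have : ∀ y : D, s₀ (g⁻¹ • w) y • ((g * y) • v₀) = L g (s₀ (g⁻¹ • w) y • (y • v₀)) := by
        intro y
        rw [(L g).map_smul, hL, smul_smul]
      rw [Finset.sum_congr rfl fun y _ => this y, ← map_sum, ← hF]
      have h2 : F (s₀ (g⁻¹ • w)) = g⁻¹ • w := LinearMap.congr_fun hs₀ _
      rw [h2, hL, smul_inv_smul]
    rw [Finset.sum_congr rfl fun g _ => h1 g, Finset.sum_const, Finset.card_univ,
      ← Nat.card_eq_fintype_card]
    obtain ⟨k, hk⟩ := hodd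
    rw [hk, succ_nsmul, mul_comm, mul_nsmul', hE, nsmul_zero, zero_add]
  set e : D → ZMod 2 := s v₀ with he
  have hse : ∀ x z : D, s (x • v₀) z = e (x⁻¹ * z) := by
    intro x z
    have := hseq x v₀ (x⁻¹ * z)
    rwa [mul_inv_cancel_left] at this
  have hT1 : ∀ w : D → ZMod 2, Matrix.toLin' (tMat e 1) w = s (F w) := by
    intro w
    rw [hF, map_sum]
    funext z
    simp only [Matrix.toLin'_apply, Matrix.mulVec, dotProduct, tMat, Matrix.of_apply, map_smul,
      Finset.sum_apply, Pi.smul_apply, smul_eq_mul, hse, inv_one, mul_one]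
    exact Finset.sum_congr rfl fun x _ => mul_comm _ _
  have hee : gMul e e = e := by
    have h := hT1 e
    rw [he, hFsec, ← he] at h
    funext z
    conv_rhs => rw [← h]
    simp only [gMul, Matrix.toLin'_apply, Matrix.mulVec, dotProduct, tMat, Matrix.of_apply, inv_one,
      mul_one]
    exact Finset.sum_congr rfl fun x _ => mul_comm _ _
  -- the rank is the dimension of `E`
  set n := finrank (ZMod 2) E with hn
  have hcardE : Nat.card E = 2 ^ n := by
    rw [hn, Module.natCard_eq_pow_finrank (K := ZMod 2), Nat.card_zmod]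
  have hrank : finrank (ZMod 2) (LinearMap.range (Matrix.toLin' (tMat e 1))) = n := by
    have hT : Matrix.toLin' (tMat e 1) = s.comp F := LinearMap.ext hT1
    rw [hT, LinearMap.range_comp_of_range_eq_top _ (LinearMap.range_eq_top.2 hFs),
      LinearMap.finrank_range_of_inj (Function.LeftInverse.injective hFsec)]
  -- lifting
  obtain ⟨M, hM⟩ := exists_isPModular Nat.prime_two
  let φ : ZMod 2 →+* resField hM := ZMod.castHom (dvd_refl 2) _
  let eK : KGA hM D := MonoidAlgebra.ofCoeff (Finsupp.equivFunOnFinite.symm fun g => φ (e g))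
  have heKc : ∀ g, eK.coeff g = φ (e g) := fun g => rfl
  have heK : IsIdempotentElem eK := by
    refine MonoidAlgebra.ext (Finsupp.ext fun g => ?_)
    rw [coeff_mul_sum]
    simp only [heKc, ← map_mul, ← map_sum]
    exact congrArg φ (congrFun hee g)
  obtain ⟨q, hq1, hq2⟩ := exists_idem_lift hM (a := liftC hM eK) (by rwa [red_liftC])
  rw [red_liftC] at hq2
  set A := liftC hM eK * Polynomial.aeval (liftC hM eK) q
  let a : D → locRing hM := fun g => A.coeff g
  have haa : gMul a a = a := funext fun g => by
    show ∑ h, A.coeff h * A.coeff (h⁻¹ * g) = A.coeff g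
    rw [← coeff_mul_sum, hq1.eq]
  have hared : ∀ g, resMap hM (a g) = φ (e g) := fun g => by
    rw [← heKc, ← hq2, coeff_red]
  have hadef : ∀ g : D, (resMap hM).mapMatrix (tMat a g) = φ.mapMatrix (tMat e g) := fun g => by
    rw [tMat_map, tMat_map, funext hared]
  have hP : tMat a 1 * tMat a 1 = tMat a 1 := by rw [tMat_mul, haa, mul_one]
  have hP0 : tMat e 1 * tMat e 1 = tMat e 1 := by rw [tMat_mul, hee, mul_one]
  have hπ : ∀ x : locRing hM, IsUnit (resMap hM x) → IsUnit x := fun x hx =>
    isUnit_of_not_mem_locIdeal hM fun hmem => by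
      rw [show resMap hM x = 0 from Ideal.Quotient.eq_zero_iff_mem.2 hmem] at hx
      exact not_isUnit_zero hx
  have hsurj : Function.Surjective (resMap hM) := Ideal.Quotient.mk_surjective
  let ι : locRing hM →+* ℂ := (locRing hM).subtype
  let aC : D → ℂ := fun g => ι (a g)
  have haaC : gMul aC aC = aC := funext fun g => by
    simp only [gMul, aC, ← map_mul, ← map_sum]
    exact congrArg ι (congrFun haa g)
  -- the representation
  let V : Submodule ℂ (D → ℂ) := LinearMap.range (Matrix.toLin' (tMat aC 1))
  have hmaps : ∀ g, ∀ w : D → ℂ, Matrix.toLin' (tMat aC g) w ∈ V := fun g w =>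
    ⟨Matrix.toLin' (tMat aC g) w, by
      rw [← LinearMap.comp_apply, ← Matrix.toLin'_mul, tMat_mul, haaC, one_mul]⟩
  let ρ : Representation ℂ D V :=
    { toFun := fun g => (Matrix.toLin' (tMat aC g)).restrict fun w _ => hmaps g w
      map_one' := by
        refine LinearMap.ext fun ⟨w, y, hy⟩ => Subtype.ext ?_
        show Matrix.toLin' (tMat aC 1) w = w
        rw [← hy, ← LinearMap.comp_apply, ← Matrix.toLin'_mul, tMat_mul, haaC, mul_one]
      map_mul' := fun g h => by
        refine LinearMap.ext fun ⟨w, hw⟩ => Subtype.ext ?_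
        show Matrix.toLin' (tMat aC (g * h)) w =
          Matrix.toLin' (tMat aC g) (Matrix.toLin' (tMat aC h) w)
        rw [← LinearMap.comp_apply, ← Matrix.toLin'_mul, tMat_mul, haaC] }
  let χ : D → ℂ := fun g => ι (tMat a g).trace
  have hχ : IsCharacter D χ := by
    have h := Char.isCharacter_character ρ
    have he' : ρ.character = χ := funext fun g => by
      show LinearMap.trace ℂ V ((Matrix.toLin' (tMat aC g)).restrict fun w _ => hmaps g w) = _
      rw [LinearMap.trace_restrict_eq_of_forall_mem _ _ (hmaps g), Matrix.trace_toLin'_eq,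
        show χ g = ι (tMat a g).trace from rfl, AddMonoidHom.map_trace ι]
      rfl
    rwa [he'] at h
  have hdeg : χ 1 = n := by
    show ι (tMat a 1).trace = (n : ℂ)
    rw [Char.LiftTrace.trace_idem hπ hsurj hP, map_natCast, hadef, finrank_range_map φ hP0, hrank]
  -- multiplicities on subgroups
  have hoddH : ∀ H : Subgroup D, Odd (Nat.card H) := fun H =>
    Odd.of_dvd_nat hodd (Subgroup.card_subgroup_dvd_card H)
  have hc2 : (2 : resField hM) = 0 := by
    exact_mod_cast (CharP.cast_eq_zero (resField hM) 2)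
  have mult : ∀ (H : Subgroup D) [Fintype H] (μ : H →* locRing hM),
      (Nat.card H : ℂ)⁻¹ * ∑ h : H, ι (μ h) * χ h =
        (finrank (resField hM) (LinearMap.range (Matrix.toLin'
          (∑ h : H, resMap hM (μ h) • φ.mapMatrix (tMat e (h : D))))) : ℂ) := by
    intro H _ μ
    obtain ⟨k, hk⟩ := hoddH H
    have hnd : ¬ 2 ∣ Nat.card H := by omega
    let c : locRing hM := ⟨(Nat.card H : ℂ)⁻¹, inv_natCast_mem_locRing hM hnd⟩
    have hc : c * (Fintype.card H : locRing hM) = 1 := Subtype.ext (by
      show (Nat.card H : ℂ)⁻¹ * ι (Fintype.card H : locRing hM) = 1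
      rw [map_natCast, ← Nat.card_eq_fintype_card,
        inv_mul_cancel₀ (by exact_mod_cast Nat.card_pos.ne')])
    have hc1 : resMap hM c = 1 := by
      have h := congrArg (resMap hM) hc
      rw [map_mul, map_natCast, map_one, ← Nat.card_eq_fintype_card, hk] at h
      push_cast at h
      rwa [hc2, zero_mul, zero_add, mul_one] at h
    have hid := avg_idem haa H μ hc
    have ht := Char.LiftTrace.trace_idem hπ hsurj hid
    have hl : ι (c • ∑ h : H, μ h • tMat a (h : D)).trace =
        (Nat.card H : ℂ)⁻¹ * ∑ h : H, ι (μ h) * χ h := by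
      simp only [Matrix.trace_smul, Matrix.trace_sum, smul_eq_mul, map_mul, map_sum, χ]
      rfl
    rw [← hl, ht, map_natCast]
    have hmap : (resMap hM).mapMatrix (c • ∑ h : H, μ h • tMat a (h : D)) =
        ∑ h : H, resMap hM (μ h) • φ.mapMatrix (tMat e (h : D)) := by
      have hsm : ∀ (x : locRing hM) (P : Matrix D D (locRing hM)),
          (resMap hM).mapMatrix (x • P) = resMap hM x • (resMap hM).mapMatrix P := fun x P => by
        ext i j; simp
      rw [hsm, hc1, one_smul, map_sum]
      exact Finset.sum_congr rfl fun h _ => by rw [hsm, hadef]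
    rw [hmap]
  refine ⟨n, χ, hχ, hcardE, hdeg, fun g => ?_, fun H _ hfix => ?_⟩
  · -- invariance under squaring
    set H := Subgroup.zpowers g
    haveI : Fintype H := Fintype.ofFinite H
    have hab : ∀ a b : H, a * b = b * a := by
      rintro ⟨_, i, rfl⟩ ⟨_, j, rfl⟩
      exact Subtype.ext (zpow_mul_comm g i j)
    let e' : (H →* ℂˣ) ≃ IrrCharacter H :=
      Char.linearCharEquiv.trans (Equiv.subtypeUnivEquiv fun ψ => Char.degree_eq_one_of_comm hab ψ.2)
    haveI : Fintype (H →* ℂˣ) := Fintype.ofEquiv _ e'.symm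
    have hmem : ∀ (lam : H →* ℂˣ) (h : H), ((lam h : ℂˣ) : ℂ) ∈ locRing hM := fun lam h =>
      root_of_unity_mem_locRing hM Nat.card_pos (show ((lam h : ℂˣ) : ℂ) ^ Nat.card H = 1 by
        rw [← Units.val_pow_eq_pow_val, ← map_pow, pow_card_eq_one', map_one, Units.val_one])
    let μ : (H →* ℂˣ) → (H →* locRing hM) := fun lam =>
      { toFun := fun h => ⟨((lam⁻¹ h : ℂˣ) : ℂ), hmem lam⁻¹ h⟩
        map_one' := Subtype.ext (by simp)
        map_mul' := fun x y => Subtype.ext (by simp [mul_comm]) }
    have hμ : ∀ lam h, ι (μ lam h) = ((lam⁻¹ h : ℂˣ) : ℂ) := fun _ _ => rfl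
    have hχH : IsCharacter H (fun h : H => χ h) := hχ.comp H.subtype
    let coef : (H →* ℂˣ) → ℂ := fun lam =>
      classInner (fun h : H => χ h) (fun h : H => ((lam h : ℂˣ) : ℂ))
    have hexp : ∀ h : H, χ h = ∑ lam, coef lam * ((lam h : ℂˣ) : ℂ) := by
      intro h
      have h1 := congrFun (Char.eq_sum_classInner hχH.isClassFunction) h
      simp only [Finset.sum_apply, Pi.smul_apply, smul_eq_mul] at h1
      rw [h1, ← e'.sum_comp]
      rfl
    have hcoef : ∀ lam, coef lam = (finrank (resField hM) (LinearMap.range (Matrix.toLin'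
        (∑ h : H, resMap hM (μ lam h) • φ.mapMatrix (tMat e (h : D))))) : ℂ) := by
      intro lam
      rw [← mult H (μ lam)]
      simp only [coef, classInner, hμ]
      congr 1
      refine Finset.sum_congr rfl fun h _ => ?_
      have hn : ‖((lam h : ℂˣ) : ℂ)‖ = 1 := Complex.norm_eq_one_of_pow_eq_one (n := Nat.card H) (by
        rw [← Units.val_pow_eq_pow_val, ← map_pow, pow_card_eq_one', map_one, Units.val_one])
        Nat.card_pos.ne'
      rw [MonoidHom.inv_apply, Units.val_inv_eq_inv_val, ← Complex.inv_eq_conj hn, mul_comm]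
    -- multiplicities of a character and of its square agree
    have hsq : ∀ lam : H →* ℂˣ, coef (lam * lam) = coef lam := by
      intro lam
      have hμsq : ∀ h, μ (lam * lam) h = μ lam h ^ 2 := fun h => Subtype.ext (by
        show (((lam * lam)⁻¹ h : ℂˣ) : ℂ) = (((lam⁻¹ h : ℂˣ) : ℂ)) ^ 2
        simp [pow_two])
      rw [hcoef, hcoef]
      norm_cast
      have hfr : (frobenius (resField hM) 2).mapMatrix
          (∑ h : H, resMap hM (μ lam h) • φ.mapMatrix (tMat e (h : D))) =
          ∑ h : H, resMap hM (μ (lam * lam) h) • φ.mapMatrix (tMat e (h : D)) := by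
        rw [map_sum]
        refine Finset.sum_congr rfl fun h _ => ?_
        ext i j
        simp only [RingHom.mapMatrix_apply, Matrix.map_apply, Matrix.smul_apply, smul_eq_mul,
          map_mul, frobenius_def, hμsq, map_pow]
        congr 1
        rw [← map_pow, ZMod.pow_card]
      rw [← hfr]
      refine finrank_range_map _ ?_
      obtain ⟨k, hk⟩ := hoddH H
      exact (by
        have := avg_idem (a := fun x => φ (e x)) (funext fun g => by
          simp only [gMul, ← map_mul, ← map_sum]
          exact congrArg φ (congrFun hee g)) H ((resMap hM : locRing hM →* resField hM).comp (μ lam))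
          (c := 1) (by
            rw [one_mul, ← Nat.card_eq_fintype_card, hk]
            push_cast
            rw [hc2, zero_mul, zero_add])
        simpa only [one_smul, MonoidHom.comp_apply, MonoidHom.coe_coe, ← tMat_map] using this)
    have hg : g ∈ H := Subgroup.mem_zpowers g
    have hinj : Function.Injective (fun lam : H →* ℂˣ => lam * lam) := by
      intro l₁ l₂ h
      refine MonoidHom.ext fun x => ?_
      obtain ⟨k, hk⟩ := hoddH H
      have hx : x = (x ^ (k + 1)) * (x ^ (k + 1)) := by
        rw [← pow_add, show k + 1 + (k + 1) = Nat.card H + 1 by omega, pow_succ, pow_card_eq_one',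
          one_mul]
      have := DFunLike.congr_fun h (x ^ (k + 1))
      simp only [MonoidHom.mul_apply] at this
      rw [hx, map_mul, map_mul]
      exact this
    show χ (g * g) = χ g
    rw [show g * g = (((⟨g, hg⟩ : H) * ⟨g, hg⟩ : H) : D) from rfl, hexp,
      show χ g = χ ((⟨g, hg⟩ : H) : D) from rfl, hexp,
      ← (Finite.injective_iff_bijective.1 hinj).sum_comp fun lam => coef lam * ((lam ⟨g, hg⟩ : ℂˣ) : ℂ)]
    refine Finset.sum_congr rfl fun lam _ => ?_
    rw [hsq, MonoidHom.mul_apply, map_mul, Units.val_mul]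
  · -- no fixed vectors
    have hz : ∑ h : H, resMap hM ((1 : H →* locRing hM) h) • φ.mapMatrix (tMat e (h : D)) = 0 := by
      simp only [MonoidHom.one_apply, map_one, one_smul, ← map_sum]
      rw [show ∑ h : H, tMat e (h : D) = 0 from ?_, map_zero]
      ext x y
      rw [Matrix.sum_apply, Matrix.zero_apply]
      have hfixed : (∑ h : H, (h : D) • (y • v₀)) = 0 := hfix _ fun k hk => by
        rw [Finset.smul_sum]
        refine Fintype.sum_equiv (Equiv.mulLeft ⟨k, hk⟩) _ _ fun h => ?_
        rw [Equiv.coe_mulLeft, Subgroup.coe_mul, mul_smul]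
      have := congrFun (congrArg s hfixed) x
      rw [map_sum, Finset.sum_apply, map_zero, Pi.zero_apply] at this
      rw [← this]
      refine Finset.sum_congr rfl fun h _ => ?_
      rw [← mul_smul, hse, mul_inv_rev]
      rfl
    have h := mult H 1
    rw [hz, LinearEquiv.map_zero, LinearMap.range_zero, finrank_bot, Nat.cast_zero, mul_eq_zero] at h
    refine Eq.trans ?_ (h.resolve_left (inv_ne_zero (by exact_mod_cast Nat.card_pos.ne')))
    exact Finset.sum_congr rfl fun x _ => by rw [MonoidHom.one_apply, map_one, one_mul]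

end Cfsg.Lib.OddTrans
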