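import Cfsg.Agent.Lib.Char.Constituents
import Cfsg.Agent.Lib.Char.DegreeDiv
import Cfsg.Agent.Lib.Char.Induced

/-!
# Linear characters of an abelian self-centralizing configuration

The setting: a group of odd order in which the centralizer `C` of a subgroup `R` of prime order is
abelian; characters are followed through their multiplicities on the linear characters of `C`.
-/

set_option autoImplicit false
set_option linter.unusedSectionVars false
set_option linter.style.haveILetI false

namespace Cfsg.Lib.OddTrans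

open Cfsg
open scoped ComplexConjugate

universe u

variable {G : Type u} [Group G] [Fintype G] (R : Subgroup G)

noncomputable local instance (priority := high) fintypeSubgroupOrbit {A : Type u}
    [Group A] [Fintype A] (H : Subgroup A) : Fintype H := Fintype.ofFinite H

local notation "C[" R "]" => Subgroup.centralizer (SetLike.coe R)

/-- Linear characters of the centralizer. -/
abbrev LinC : Type u := Subgroup.centralizer (R : Set G) →* ℂˣ

noncomputable instance linCFintype : Fintype (LinC R) :=
  haveI : Finite (LinC R) := Finite.of_equiv _ (Char.linearCharEquiv (G := C[R])).symm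
  Fintype.ofFinite _

/-- The multiplicity of a linear character of the centralizer in a character. -/
noncomputable def mu (f : G → ℂ) (η : LinC R) : ℕ :=
  ⌊(classInner (fun c : C[R] => f c) (fun c : C[R] => (η c : ℂ))).re⌋₊

variable {R}

theorem mu_spec {f : G → ℂ} (hf : IsCharacter G f) (η : LinC R) :
    classInner (fun c : C[R] => f c) (fun c : C[R] => (η c : ℂ)) = (mu R f η : ℂ) := by
  obtain ⟨n, hn⟩ := (hf.comp (C[R]).subtype).exists_nat_classInner
    (Char.isIrrCharacter_linear η).isCharacter
  simp only [Subgroup.coe_subtype] at hn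
  rw [mu, hn, Complex.natCast_re, Nat.floor_natCast]

theorem linear_inner [DecidableEq (LinC R)] (η η' : LinC R) :
    classInner (fun c : C[R] => (η c : ℂ)) (fun c : C[R] => (η' c : ℂ)) =
      if η = η' then 1 else 0 := by
  split_ifs with h
  · subst h; exact Char.classInner_irr_self (Char.isIrrCharacter_linear η)
  · exact Char.classInner_irr_ne (Char.isIrrCharacter_linear η) (Char.isIrrCharacter_linear η')
      fun e => h (Char.linearChar_injective e)

/-- Conjugation by an element of the normalizer, on the centralizer. -/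
def conjC (g : Subgroup.normalizer (R : Set G)) : C[R] →* C[R] where
  toFun c := ⟨g * c * (g : G)⁻¹, Subgroup.mem_centralizer_iff.2 fun z hz => by
    have hz' : (g : G)⁻¹ * z * g ∈ R := by
      have := (Subgroup.mem_normalizer_iff.1 (inv_mem g.2) z).1 hz
      rwa [inv_inv] at this
    have e := Subgroup.mem_centralizer_iff.1 c.2 _ hz'
    calc z * ((g : G) * c * (g : G)⁻¹) = g * (((g : G)⁻¹ * z * g) * c) * (g : G)⁻¹ := by group
      _ = g * ((c : G) * ((g : G)⁻¹ * z * g)) * (g : G)⁻¹ := by rw [e]
      _ = (g : G) * c * (g : G)⁻¹ * z := by group⟩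
  map_one' := Subtype.ext (by simp)
  map_mul' a b := Subtype.ext (by simp [mul_assoc])

theorem conjC_apply (g : Subgroup.normalizer (R : Set G)) (c : C[R]) :
    ((conjC g c : C[R]) : G) = g * c * (g : G)⁻¹ := rfl

/-- The twist of a linear character by an element of the normalizer. -/
def twist (η : LinC R) (g : Subgroup.normalizer (R : Set G)) : LinC R := η.comp (conjC g)

theorem twist_apply (η : LinC R) (g : Subgroup.normalizer (R : Set G)) (c : C[R]) :
    twist η g c = η (conjC g c) := rfl

theorem twist_one (η : LinC R) : twist η 1 = η :=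
  MonoidHom.ext fun c => congrArg η (Subtype.ext (by simp [conjC_apply]))

theorem twist_mul (η : LinC R) (g h : Subgroup.normalizer (R : Set G)) :
    twist η (g * h) = twist (twist η g) h :=
  MonoidHom.ext fun c => congrArg η (Subtype.ext (by simp [conjC_apply, mul_assoc]))

theorem mu_twist (f : G → ℂ) (hf : IsClassFunction G f) (η : LinC R)
    (g : Subgroup.normalizer (R : Set G)) : mu R f (twist η g) = mu R f η := by
  have hbij : Function.Bijective (conjC g : C[R] → C[R]) := by
    refine Finite.injective_iff_bijective.1 fun a b h => Subtype.ext ?_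
    have := congrArg Subtype.val h
    simpa [conjC_apply] using this
  unfold mu
  congr 2
  simp only [classInner]
  congr 1
  refine Fintype.sum_bijective _ hbij _ _ fun c => ?_
  rw [conjC_apply, hf, twist_apply]

/-- Linear characters nontrivial on `R`. -/
def NT (η : LinC R) : Prop := ∃ c : C[R], (c : G) ∈ R ∧ η c ≠ 1

open Classical in
/-- The orbit of a linear character under the normalizer. -/
noncomputable def orb (η : LinC R) : Finset (LinC R) := Finset.univ.image (twist η)

theorem mem_orb {η η' : LinC R} : η' ∈ orb η ↔ ∃ g, twist η g = η' := by simp [orb]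

theorem self_mem_orb (η : LinC R) : η ∈ orb η := mem_orb.2 ⟨1, twist_one η⟩

theorem mem_orb_symm {η η' : LinC R} (h : η' ∈ orb η) : η ∈ orb η' := by
  obtain ⟨g, rfl⟩ := mem_orb.1 h
  exact mem_orb.2 ⟨g⁻¹, by rw [← twist_mul, mul_inv_cancel, twist_one]⟩

theorem NT.twist {η : LinC R} (h : NT η) (g : Subgroup.normalizer (R : Set G)) :
    NT (twist η g) := by
  obtain ⟨c, hc, hne⟩ := h
  refine ⟨conjC g⁻¹ c, ?_, ?_⟩
  · rw [conjC_apply]
    exact (Subgroup.mem_normalizer_iff.1 (g⁻¹).2 _).1 hc
  · rw [twist_apply, show conjC g (conjC g⁻¹ c) = c from Subtype.ext (by simp [conjC_apply, mul_assoc])]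
    exact hne

theorem NT.of_mem_orb {η η' : LinC R} (h : NT η) (h' : η' ∈ orb η) : NT η' := by
  obtain ⟨g, rfl⟩ := mem_orb.1 h'
  exact h.twist g

theorem NT.inv {η : LinC R} (h : NT η) : NT η⁻¹ := by
  obtain ⟨c, hc, hne⟩ := h
  exact ⟨c, hc, by simpa using hne⟩

theorem NT.inj {r : ℕ} [hr : Fact r.Prime] (hR : Nat.card R = r) {η : LinC R} (h : NT η)
    {c c' : C[R]} (hc : (c : G) ∈ R) (hc' : (c' : G) ∈ R) (he : η c = η c') : c = c' := by
  obtain ⟨a, ha, hne⟩ := h
  by_contra hcc
  refine hne ?_
  have hd : ((c * c'⁻¹ : C[R]) : G) ≠ 1 := fun e =>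
    hcc (mul_inv_eq_one.1 (Subtype.ext e : c * c'⁻¹ = 1))
  let d : R := ⟨_, mul_mem hc (inv_mem hc')⟩
  have hz := mem_zpowers_of_prime_card (g := d) (g' := (⟨a, ha⟩ : R)) hR
    (fun e => hd (congrArg Subtype.val e))
  obtain ⟨k, hk⟩ := hz
  have hk' : a = (c * c'⁻¹) ^ k := Subtype.ext (congrArg Subtype.val hk).symm
  rw [hk', map_zpow, map_mul, map_inv, he, mul_inv_cancel, one_zpow]

variable {r : ℕ} [hr : Fact r.Prime] (hR : Nat.card R = r)

include hR in
theorem twist_eq_self {η : LinC R} (h : NT η) {g : Subgroup.normalizer (R : Set G)}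
    (he : twist η g = η) : (g : G) ∈ C[R] := by
  haveI : IsMulCommutative R := (isCyclic_of_prime_card hR).isMulCommutative
  refine Subgroup.mem_centralizer_iff.2 fun z hz => ?_
  have hzC : z ∈ C[R] := Subgroup.le_centralizer R hz
  have h1 : η (conjC g ⟨z, hzC⟩) = η ⟨z, hzC⟩ := by rw [← twist_apply, he]
  have h2 : (g : G) * z * (g : G)⁻¹ = z := congrArg Subtype.val (h.inj hR
    (show ((conjC g ⟨z, hzC⟩ : C[R]) : G) ∈ R from (Subgroup.mem_normalizer_iff.1 g.2 z).1 hz)
    hz h1)
  calc z * g = (g : G) * z * (g : G)⁻¹ * g := by rw [h2]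
    _ = g * z := by group

variable (hab : ∀ a b : C[R], a * b = b * a)

include hab in
theorem twist_of_mem (η : LinC R) {g : Subgroup.normalizer (R : Set G)} (hg : (g : G) ∈ C[R]) :
    twist η g = η :=
  MonoidHom.ext fun c => congrArg η (Subtype.ext (by
    rw [conjC_apply, show (g : G) * c = c * g from congrArg Subtype.val (hab ⟨g, hg⟩ c),
      mul_inv_cancel_right]))

include hR hab in
theorem twist_eq_twist_iff {η : LinC R} (h : NT η) (g g' : Subgroup.normalizer (R : Set G)) :
    twist η g = twist η g' ↔ (g : G) * (g' : G)⁻¹ ∈ C[R] := by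
  constructor
  · intro e
    exact twist_eq_self hR h (g := g * g'⁻¹) (by rw [twist_mul, e, ← twist_mul, mul_inv_cancel, twist_one])
  · intro e
    calc twist η g = twist η (g * g'⁻¹ * g') := by rw [inv_mul_cancel_right]
      _ = _ := by rw [twist_mul, twist_of_mem hab η (g := g * g'⁻¹) e]

include hR hab in
theorem card_orb {η : LinC R} (h : NT η) :
    (orb η).card = (C[R]).relIndex (Subgroup.normalizer (R : Set G)) := by
  classical
  have hCN : C[R] ≤ Subgroup.normalizer (R : Set G) := Subgroup.centralizer_le_normalizer _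
  have h1 := Finset.card_eq_sum_card_image (twist η)
    (Finset.univ : Finset (Subgroup.normalizer (R : Set G)))
  have h2 : ∀ o ∈ Finset.univ.image (twist η),
      (Finset.univ.filter fun g => twist η g = o).card = Nat.card C[R] := by
    intro o ho
    obtain ⟨g₀, -, rfl⟩ := Finset.mem_image.1 ho
    rw [← Fintype.card_subtype, ← Nat.card_eq_fintype_card]
    refine Nat.card_congr
      ⟨fun g => ⟨(g.1 : G) * (g₀ : G)⁻¹, (twist_eq_twist_iff hR hab h _ _).1 g.2⟩,
      fun c => ⟨⟨(c : G) * g₀, mul_mem (hCN c.2) g₀.2⟩, (twist_eq_twist_iff hR hab h _ _).2 ?_⟩,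
      fun g => ?_, fun c => ?_⟩
    · simp
    · exact Subtype.ext (Subtype.ext (by simp))
    · exact Subtype.ext (by simp)
  rw [Finset.sum_congr rfl h2, Finset.sum_const, smul_eq_mul, Finset.card_univ,
    ← Nat.card_eq_fintype_card,
    ← Subgroup.card_mul_index ((C[R]).subgroupOf (Subgroup.normalizer (R : Set G))),
    Nat.card_congr (Subgroup.subgroupOfEquivOfLe hCN).toEquiv, mul_comm] at h1
  exact (Nat.eq_of_mul_eq_mul_right Nat.card_pos h1).symm

include hR in
theorem twist_inv_notMem (hodd : Odd (Nat.card G)) (hr2 : r ≠ 2) {η : LinC R} (h : NT η)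
    (g : Subgroup.normalizer (R : Set G)) : twist η g ≠ η⁻¹ := by
  intro he
  haveI : IsMulCommutative R := (isCyclic_of_prime_card hR).isMulCommutative
  have h2 : (g * g : Subgroup.normalizer (R : Set G)).1 ∈ C[R] := by
    refine twist_eq_self hR h ?_
    rw [twist_mul, he]
    ext c
    rw [twist_apply, MonoidHom.inv_apply, ← twist_apply, he, MonoidHom.inv_apply, inv_inv]
  obtain ⟨k, hk⟩ := hodd
  have hg : (g : G) ∈ C[R] := by
    have h4 : ((g * g : Subgroup.normalizer (R : Set G)) : G) ^ (k + 1) = (g : G) := by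
      rw [Subgroup.coe_mul, ← pow_two, ← pow_mul, show 2 * (k + 1) = Nat.card G + 1 by omega,
        pow_succ, pow_card_eq_one', one_mul]
    exact h4 ▸ pow_mem h2 _
  obtain ⟨c, hc, hne⟩ := h
  refine hne ?_
  have h3 : η (conjC g c) = η⁻¹ c := by rw [← twist_apply, he]
  rw [show conjC g c = c from Subtype.ext (by
    rw [conjC_apply, ← Subgroup.mem_centralizer_iff.1 hg _ hc, mul_inv_cancel_right])] at h3
  -- an element of odd order equal to its inverse is trivial
  have hu : η c * η c = 1 := by rw [MonoidHom.inv_apply] at h3; rwa [← mul_eq_one_iff_eq_inv] at h3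
  have hcr : c ^ r = 1 := by
    apply Subtype.ext
    rw [SubmonoidClass.coe_pow, ← hR]
    exact congrArg Subtype.val (pow_card_eq_one' (x := (⟨c, hc⟩ : R)))
  obtain ⟨j, hj⟩ := hr.out.odd_of_ne_two hr2
  have h5 := congrArg η hcr
  rw [map_pow, map_one, hj, pow_succ, pow_mul, pow_two, hu, one_pow, one_mul] at h5
  exact h5

include hab in
theorem expand {f : G → ℂ} (hf : IsCharacter G f) (c : C[R]) :
    f c = ∑ η : LinC R, (mu R f η : ℂ) * (η c : ℂ) := by
  have h := congrFun (Char.eq_sum_classInner (f := fun c : C[R] => f c)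
    (hf.comp (C[R]).subtype).isClassFunction) c
  simp only [Finset.sum_apply, Pi.smul_apply, smul_eq_mul] at h
  rw [h]
  let e : LinC R ≃ IrrCharacter C[R] :=
    Char.linearCharEquiv.trans (Equiv.subtypeUnivEquiv fun χ => Char.degree_eq_one_of_comm hab χ.2)
  rw [← e.sum_comp]
  refine Finset.sum_congr rfl fun η _ => ?_
  rw [show ((e η : IrrCharacter C[R]) : C[R] → ℂ) = fun c => (η c : ℂ) from rfl, mu_spec hf]

include hab in
theorem sum_mu {f : G → ℂ} (hf : IsCharacter G f) {d : ℕ} (hd : f 1 = d) :
    ∑ η : LinC R, mu R f η = d := by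
  have h := expand hab hf (1 : C[R])
  simp only [OneMemClass.coe_one, map_one, Units.val_one, mul_one, hd] at h
  exact_mod_cast h.symm

include hab in
theorem norm_mu {f : G → ℂ} (hf : IsCharacter G f) :
    classInner (fun c : C[R] => f c) (fun c : C[R] => f c) = ((∑ η : LinC R, mu R f η ^ 2 : ℕ) : ℂ) := by
  classical
  have he : (fun c : C[R] => f c) =
      ∑ η : LinC R, (mu R f η : ℂ) • (fun c : C[R] => (η c : ℂ)) := by
    funext c
    simp [expand hab hf c, Finset.sum_apply]
  conv_lhs => arg 2; rw [he]
  rw [Char.classInner_sum_right, Nat.cast_sum]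
  refine Finset.sum_congr rfl fun η _ => ?_
  rw [Char.classInner_smul_right, mu_spec hf, Complex.conj_natCast]
  push_cast
  ring

end Cfsg.Lib.OddTrans
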