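import Cfsg.Agent.Lib.OddTrans.Fitting
import Cfsg.Agent.Lib.Linear.RankOneInverted

/-!
# The inverted set of the two-point stabiliser is a cyclic normal subgroup

In the rank-one set-up the two-point stabiliser acts on the involutions of the point stabiliser as
a transitive linear group of odd order, so semilinearly; the elements inverted by `t` map onto the
linear part.
-/

set_option autoImplicit false
set_option linter.unusedSectionVars false
set_option linter.style.haveILetI false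

namespace Cfsg.Lib.OddTrans

open Cfsg Cfsg.Lib.Linear.RankOne

universe u v

variable {G : Type u} {Ω : Type v} [Group G] [Finite G] [MulAction G Ω] {a : Ω} {t : G}
  {Q : Subgroup G}

local notation "Ga" => MulAction.stabilizer G a
local notation "DD" => (MulAction.stabilizer G a ⊓ MulAction.stabilizer G (t • a))

variable (hS : Cfsg.IsRankOneSetup G Ω a t Q)
  (h2 : ∃ x y : G, x ≠ 1 ∧ y ≠ 1 ∧ x ≠ y ∧ x * x = 1 ∧ y * y = 1 ∧ x * y = y * x)

include hS h2

/-- The structure of the inverted set and of the centralizer of `t`. -/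
theorem inverted_structure :
    ∃ k₀ ∈ Cfsg.invertedBy DD t,
      (Subgroup.zpowers k₀ : Set G) = Cfsg.invertedBy DD t ∧
      (∀ d ∈ DD, ∀ c ∈ Subgroup.zpowers k₀, d * c * d⁻¹ ∈ Subgroup.zpowers k₀) ∧
      ∃ v ∈ DD ⊓ Subgroup.centralizer {t},
        ∀ x ∈ DD ⊓ Subgroup.centralizer {t}, ∃ j : ℕ,
          x * (v ^ j)⁻¹ ∈ DD ⊓ Subgroup.centralizer {t} ⊓
            Subgroup.centralizer (Cfsg.invertedBy DD t) := by
  classical
  haveI : Fintype G := Fintype.ofFinite G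
  -- the elementary abelian group of involutions
  let Es : Subgroup G :=
    { carrier := {x | x ∈ Ga ∧ x * x = 1}
      one_mem' := ⟨one_mem _, one_mul 1⟩
      mul_mem' := fun {x y} hx hy => by
        refine ⟨mul_mem hx.1 hy.1, ?_⟩
        by_cases hx1 : x = 1
        · rw [hx1, one_mul]; exact hy.2
        by_cases hy1 : y = 1
        · rw [hy1, mul_one]; exact hx.2
        rcases invol_mul_mem hS h2 ⟨hx.1, hx1, hx.2⟩ ⟨hy.1, hy1, hy.2⟩ with h | h
        · rw [h, one_mul]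
        · exact h.2.2
      inv_mem' := fun {x} hx => by rw [inv_eq_of_mul_eq_one_left hx.2]; exact hx }
  letI : CommGroup Es := { (inferInstance : Group Es) with
    mul_comm := fun x y => by
      have hsq : ∀ z : Es, z⁻¹ = z := fun z => inv_eq_of_mul_eq_one_left (Subtype.ext z.2.2)
      calc x * y = (x * y)⁻¹ := (hsq _).symm
        _ = y * x := by rw [mul_inv_rev, hsq, hsq] }
  let W : Subgroup ↥DD := (Subgroup.centralizer (Es : Set G)).subgroupOf DD
  have hW : ∀ {d : ↥DD}, d ∈ W ↔ ∀ x ∈ Es, x * d = d * x := fun {d} =>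
    Subgroup.mem_centralizer_iff
  have hconj : ∀ d ∈ DD, ∀ x ∈ Es, d * x * d⁻¹ ∈ Es := fun d hd x hx =>
    ⟨mul_mem (mul_mem hd.1 hx.1) (inv_mem hd.1), by
      rw [show d * x * d⁻¹ * (d * x * d⁻¹) = d * (x * x) * d⁻¹ by group, hx.2]; group⟩
  haveI hWn : W.Normal := ⟨fun w hw d => hW.2 fun x hx => by
    have h := hW.1 hw _ (hconj _ (d⁻¹).2 x hx)
    simp only [Subgroup.coe_inv, inv_inv] at h
    push_cast
    calc x * ((d : G) * w * (d : G)⁻¹) = d * (((d : G)⁻¹ * x * d) * w) * (d : G)⁻¹ := by group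
      _ = d * (w * ((d : G)⁻¹ * x * d)) * (d : G)⁻¹ := by rw [h]
      _ = d * w * (d : G)⁻¹ * x := by group⟩
  let E := Additive Es
  -- the action of the quotient
  let act : ↥DD ⧸ W → Es → Es := fun q x =>
    ⟨(q.out : G) * x * (q.out : G)⁻¹, hconj _ q.out.2 x x.2⟩
  have hact : ∀ (d : ↥DD) (x : Es), (act (d : ↥DD ⧸ W) x : G) = (d : G) * x * (d : G)⁻¹ := by
    intro d x
    obtain ⟨w, hw⟩ := QuotientGroup.mk_out_eq_mul W d
    show ((d : ↥DD ⧸ W).out : G) * x * ((d : ↥DD ⧸ W).out : G)⁻¹ = _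
    rw [hw, Subgroup.coe_mul]
    have h := hW.1 w.2 x x.2
    calc (d : G) * (w : ↥DD) * x * ((d : G) * (w : ↥DD))⁻¹
        = d * (((w : ↥DD) : G) * x) * ((w : ↥DD) : G)⁻¹ * (d : G)⁻¹ := by group
      _ = d * (x * ((w : ↥DD) : G)) * ((w : ↥DD) : G)⁻¹ * (d : G)⁻¹ := by rw [h]
      _ = _ := by group
  letI : DistribMulAction (↥DD ⧸ W) E :=
    { smul := fun q x => Additive.ofMul (act q (Additive.toMul x))
      one_smul := fun x => by
        refine Additive.toMul.injective (Subtype.ext ?_)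
        show (act ((1 : ↥DD) : ↥DD ⧸ W) (Additive.toMul x) : G) = _
        rw [hact]; simp
      mul_smul := fun q q' x => by
        obtain ⟨d, rfl⟩ := QuotientGroup.mk_surjective q
        obtain ⟨d', rfl⟩ := QuotientGroup.mk_surjective q'
        refine Additive.toMul.injective (Subtype.ext ?_)
        show (act ((d * d' : ↥DD) : ↥DD ⧸ W) (Additive.toMul x) : G) = (act _ (act _ _) : G)
        rw [hact, hact, hact, Subgroup.coe_mul]
        group
      smul_zero := fun q => by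
        refine Additive.toMul.injective (Subtype.ext ?_)
        show (q.out : G) * 1 * (q.out : G)⁻¹ = 1
        group
      smul_add := fun q x y => by
        refine Additive.toMul.injective (Subtype.ext ?_)
        show (q.out : G) * (((Additive.toMul x : Es) : G) * ((Additive.toMul y : Es) : G)) * (q.out : G)⁻¹
          = ((q.out : G) * ((Additive.toMul x : Es) : G) * (q.out : G)⁻¹) *
            ((q.out : G) * ((Additive.toMul y : Es) : G) * (q.out : G)⁻¹)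
        group }
  have hsmul : ∀ (d : ↥DD) (x : E), ((Additive.toMul ((d : ↥DD ⧸ W) • x) : Es) : G) =
      (d : G) * ((Additive.toMul x : Es) : G) * (d : G)⁻¹ := fun d x => hact d _
  haveI : FaithfulSMul (↥DD ⧸ W) E := ⟨fun {q q'} h => by
    obtain ⟨d, rfl⟩ := QuotientGroup.mk_surjective q
    obtain ⟨d', rfl⟩ := QuotientGroup.mk_surjective q'
    refine QuotientGroup.eq.2 (hW.2 fun x hx => ?_)
    have h1 := congrArg (fun z : E => ((Additive.toMul z : Es) : G)) (h (Additive.ofMul (⟨x, hx⟩ : Es)))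
    simp only [hsmul, toMul_ofMul] at h1
    rw [Subgroup.coe_mul, Subgroup.coe_inv]
    calc x * ((d : G)⁻¹ * d') = (d : G)⁻¹ * ((d : G) * x * (d : G)⁻¹) * d' := by group
      _ = (d : G)⁻¹ * ((d' : G) * x * (d' : G)⁻¹) * d' := by rw [h1]
      _ = (d : G)⁻¹ * d' * x := by group⟩
  obtain ⟨s₁, hs₁, s₂, hs₂, hne⟩ := exists_two_invol hS h2
  haveI : Nontrivial E :=
    ⟨⟨Additive.ofMul ⟨s₁, hs₁.1, hs₁.2.2⟩, 0, fun h => hs₁.2.1
      (congrArg Subtype.val (congrArg Additive.toMul h))⟩⟩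
  haveI : Fintype (↥DD ⧸ W) := Fintype.ofFinite _
  have hodd : Odd (Nat.card (↥DD ⧸ W)) :=
    Odd.of_dvd_nat hS.odd_card (Subgroup.card_quotient_dvd_card W)
  have hexp : ∀ x : E, 2 • x = 0 := fun x =>
    Additive.toMul.injective (Subtype.ext (show ((Additive.toMul x : Es) ^ 2 : Es).1 = 1 by
      rw [pow_two]; exact (Additive.toMul x : Es).2.2))
  have hne' : ∀ x : E, x ≠ 0 → ((Additive.toMul x : Es) : G) ∈ Cfsg.involutionsIn (Ga : Set G) :=
    fun x hx => ⟨(Additive.toMul x : Es).2.1,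
      fun h => hx (Additive.toMul.injective (Subtype.ext h)), (Additive.toMul x : Es).2.2⟩
  have htrans : ∀ x y : E, x ≠ 0 → y ≠ 0 → ∃ q : ↥DD ⧸ W, q • x = y := by
    intro x y hx hy
    obtain ⟨k, hk, he⟩ := inverted_transitive hS (hne' x hx) (hne' y hy)
    refine ⟨((⟨k⁻¹, inv_mem hk.1⟩ : ↥DD) : ↥DD ⧸ W), Additive.toMul.injective (Subtype.ext ?_)⟩
    rw [hsmul, inv_inv, he]
  obtain ⟨hcyc, hfpf, -, hsc, m, θ, hθ⟩ := structure_of_transitive hodd hexp htrans
  -- `W` is centralised by `t`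
  obtain ⟨⟨s₀, r₀⟩, ⟨hs₀, hr₀, heq⟩, -⟩ := exists_unique_equation hS
  have hC := centralizer_eq hS hs₀ hr₀ heq
  have hWV : ∀ w ∈ W, (w : G) ∈ DD ⊓ Subgroup.centralizer {t} := fun w hw => by
    rw [hC]
    exact ⟨w.2, Subgroup.mem_centralizer_singleton_iff.2 (hW.1 hw s₀ ⟨hs₀.1, hs₀.2.2⟩).symm⟩
  let τ : ↥DD ≃* ↥DD :=
    { toFun := fun d => ⟨t * d * t⁻¹, conj_inv_mem_D hS d.2⟩
      invFun := fun d => ⟨t * d * t⁻¹, conj_inv_mem_D hS d.2⟩
      left_inv := fun d => Subtype.ext (by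
        show t * (t * d * t⁻¹) * t⁻¹ = d
        rw [t_inv hS]
        calc t * (t * d * t) * t = (t * t) * d * (t * t) := by group
          _ = d := by rw [hS.mul_self]; group)
      right_inv := fun d => Subtype.ext (by
        show t * (t * d * t⁻¹) * t⁻¹ = d
        rw [t_inv hS]
        calc t * (t * d * t) * t = (t * t) * d * (t * t) := by group
          _ = d := by rw [hS.mul_self]; group)
      map_mul' := fun x y => Subtype.ext (by push_cast; group) }
  have hτW : ∀ w ∈ W, τ w = w := fun w hw => Subtype.ext (conj_t_eq hS (hWV w hw))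
  let τb : ↥DD ⧸ W ≃* ↥DD ⧸ W := QuotientGroup.congr W W τ (by
    ext d
    constructor
    · rintro ⟨w, hw, rfl⟩
      exact (hτW w hw).symm ▸ hw
    · exact fun hd => ⟨d, hd, hτW d hd⟩)
  have hτb : ∀ d : ↥DD, τb (d : ↥DD ⧸ W) = ((τ d : ↥DD) : ↥DD ⧸ W) := fun d => rfl
  set F := Cfsg.fittingSubgroup (↥DD ⧸ W) with hF
  have hFτ : ∀ x ∈ F, τb x ∈ F := by
    intro x hx
    have h := Cfsg.Lib.Core.map_fittingSubgroup_le (τb : ↥DD ⧸ W →* ↥DD ⧸ W) τb.surjective
    exact h ⟨x, hx, rfl⟩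
  have hnorm : ∀ x ∈ DD, t * x * t⁻¹ ∈ DD := fun x hx => conj_inv_mem_D hS hx
  -- an element of the linear part fixed by `t` is trivial
  have hfix : ∀ v : ↥DD, (v : G) ∈ DD ⊓ Subgroup.centralizer {t} → (v : ↥DD ⧸ W) ∈ F → v ∈ W := by
    intro v hv hvF
    rw [← QuotientGroup.eq_one_iff]
    by_contra h1
    have h := hfpf _ hvF h1 (Additive.ofMul ⟨s₀, hs₀.1, hs₀.2.2⟩) (by
      refine Additive.toMul.injective (Subtype.ext ?_)
      rw [hsmul, toMul_ofMul]
      rw [hC] at hv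
      rw [mul_inv_eq_iff_eq_mul]
      exact Subgroup.mem_centralizer_singleton_iff.1 hv.2)
    exact hs₀.2.1 (congrArg Subtype.val (congrArg Additive.toMul h))
  -- the linear part is inverted by `t`
  have hFinv : ∀ x ∈ F, τb x = x⁻¹ := by
    haveI : IsMulCommutative F := hcyc.isMulCommutative
    intro x hx
    have hy : x * τb x ∈ F := mul_mem hx (hFτ x hx)
    obtain ⟨d, hd⟩ := QuotientGroup.mk_surjective x
    have hfixy : τb (x * τb x) = x * τb x := by
      have hττ : τb (τb x) = x := by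
        rw [← hd, hτb, hτb]
        congr 1
        exact τ.left_inv d
      rw [map_mul, hττ]
      exact congrArg Subtype.val (mul_comm' (⟨τb x, hFτ x hx⟩ : F) ⟨x, hx⟩)
    obtain ⟨y, hy'⟩ := QuotientGroup.mk_surjective (x * τb x)
    obtain ⟨⟨p, k⟩, ⟨hp, hk, hpk⟩, -⟩ := odd_factorization hS.mul_self hS.odd_card hnorm y.2
    simp only at hp hk hpk
    have hτy : (τ y)⁻¹ * y ∈ W := by
      rw [← QuotientGroup.eq, ← hτb, hy', hfixy]
    have hk2 : (⟨k * k, mul_mem hk.1 hk.1⟩ : ↥DD) ∈ W := by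
      have : (τ y)⁻¹ * y = ⟨k * k, mul_mem hk.1 hk.1⟩ := Subtype.ext (by
        show (t * (y : G) * t⁻¹)⁻¹ * y = k * k
        rw [hpk, show t * (p * k) * t⁻¹ = (t * p * t⁻¹) * (t * k * t⁻¹) by group, conj_t_eq hS hp, hk.2]
        group)
      rwa [this] at hτy
    have hkW : (⟨k, hk.1⟩ : ↥DD) ∈ W := by
      obtain ⟨i, hi⟩ := exists_sqrt_of_odd hS.odd_card hk.1
      have : (⟨k, hk.1⟩ : ↥DD) = (⟨k * k, mul_mem hk.1 hk.1⟩ : ↥DD) ^ i := Subtype.ext (by
        rw [SubmonoidClass.coe_pow]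
        show k = (k * k) ^ i
        rw [(Commute.refl k).mul_pow, hi])
      rw [this]; exact pow_mem hk2 i
    have hpW : (⟨p, hp.1⟩ : ↥DD) ∈ W := by
      refine hfix _ hp ?_
      have : ((⟨p, hp.1⟩ : ↥DD) : ↥DD ⧸ W) = (y : ↥DD ⧸ W) := by
        refine QuotientGroup.eq.2 ?_
        rwa [show (⟨p, hp.1⟩ : ↥DD)⁻¹ * y = ⟨k, hk.1⟩ from Subtype.ext (by
          show p⁻¹ * (y : G) = k
          rw [hpk, inv_mul_cancel_left])]
      rw [this, hy']; exact hy
    have hone : x * τb x = 1 := by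
      rw [← hy', QuotientGroup.eq_one_iff,
        show y = ⟨p, hp.1⟩ * ⟨k, hk.1⟩ from Subtype.ext hpk]
      exact mul_mem hpW hkW
    exact eq_inv_of_mul_eq_one_right hone
  -- inverted elements lie in the linear part
  have hKF : ∀ k (hk : k ∈ Cfsg.invertedBy DD t), ((⟨k, hk.1⟩ : ↥DD) : ↥DD ⧸ W) ∈ F := by
    intro k hk
    set q : ↥DD ⧸ W := ((⟨k, hk.1⟩ : ↥DD) : ↥DD ⧸ W) with hq
    have hτq : τb q = q⁻¹ := by
      rw [hq, hτb, ← QuotientGroup.mk_inv]
      congr 1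
      exact Subtype.ext hk.2
    have hc : q * q ∈ F := by
      refine hsc _ fun f hf => ?_
      have h1 : τb (q * f * q⁻¹) = q⁻¹ * f⁻¹ * q := by
        rw [map_mul, map_mul, map_inv, hτq, hFinv f hf, inv_inv]
      haveI : F.Normal := Cfsg.Lib.Core.fittingSubgroup_normal' _
      rw [hFinv _ (Subgroup.Normal.conj_mem inferInstance f hf q)] at h1
      have h3 : q * f * q⁻¹ = q⁻¹ * f * q := by
        have := congrArg (·⁻¹) h1
        simpa [mul_assoc] using this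
      calc q * q * f = q * (q * f * q⁻¹) * q := by group
        _ = q * (q⁻¹ * f * q) * q := by rw [h3]
        _ = f * (q * q) := by group
    obtain ⟨i, hi⟩ := exists_sqrt_of_odd (X := (⊤ : Subgroup (↥DD ⧸ W)))
      (by rwa [Subgroup.card_top]) (Subgroup.mem_top q)
    have : q = (q * q) ^ i := by rw [(Commute.refl q).mul_pow, hi]
    rw [this]
    exact pow_mem hc i
  -- a generator
  obtain ⟨⟨g, hg⟩, hgen⟩ := hcyc.exists_generator
  obtain ⟨d, hd⟩ := QuotientGroup.mk_surjective g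
  obtain ⟨⟨p, k₀⟩, ⟨hp, hk₀, hdk⟩, -⟩ := odd_factorization hS.mul_self hS.odd_card hnorm d.2
  simp only at hp hk₀ hdk
  have hgk : ((⟨k₀, hk₀.1⟩ : ↥DD) : ↥DD ⧸ W) = g := by
    rw [← hd, show d = ⟨p, hp.1⟩ * ⟨k₀, hk₀.1⟩ from Subtype.ext hdk, QuotientGroup.mk_mul]
    have hpF : ((⟨p, hp.1⟩ : ↥DD) : ↥DD ⧸ W) ∈ F := by
      have := hd ▸ hg
      rw [show d = ⟨p, hp.1⟩ * ⟨k₀, hk₀.1⟩ from Subtype.ext hdk, QuotientGroup.mk_mul] at this
      exact (Subgroup.mul_mem_cancel_right F (hKF k₀ hk₀)).1 this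
    rw [(QuotientGroup.eq_one_iff _).2 (hfix _ hp hpF), one_mul]
  have hzK : ∀ c ∈ Subgroup.zpowers k₀, c ∈ Cfsg.invertedBy DD t := by
    rintro _ ⟨j, rfl⟩
    refine ⟨zpow_mem hk₀.1 j, ?_⟩
    rw [← conj_zpow, hk₀.2, inv_zpow]
  have hKz : ∀ k ∈ Cfsg.invertedBy DD t, k ∈ Subgroup.zpowers k₀ := by
    intro k hk
    obtain ⟨j, hj⟩ := hgen ⟨_, hKF k hk⟩
    have hj' : g ^ j = ((⟨k, hk.1⟩ : ↥DD) : ↥DD ⧸ W) := congrArg Subtype.val hj
    rw [← hgk, ← QuotientGroup.mk_zpow, QuotientGroup.eq] at hj'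
    -- so `k` is an element of `W` times a power of `k₀`
    have hw := hWV _ hj'
    have hk2 := hWV _ (Subgroup.Normal.conj_mem hWn _ hj' ((⟨k₀, hk₀.1⟩ : ↥DD) ^ j))
    obtain ⟨-, h⟩ := odd_factorization_unique hS.mul_self hS.odd_card hnorm
      hk2 (one_mem _) (hzK (k₀ ^ j) ⟨j, rfl⟩) hk (by
        push_cast
        group)
    exact ⟨j, h⟩
  have hKeq : (Subgroup.zpowers k₀ : Set G) = Cfsg.invertedBy DD t :=
    Set.ext fun c => ⟨hzK c, hKz c⟩
  refine ⟨k₀, hk₀, hKeq, fun x hx c hc => ?_, ?_⟩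
  · obtain ⟨⟨v, k⟩, ⟨hv, hk, rfl⟩, -⟩ := odd_factorization hS.mul_self hS.odd_card hnorm hx
    simp only at hv hk ⊢
    obtain ⟨i, hi⟩ := hKz k hk
    obtain ⟨j, hj⟩ := hc
    have hkc : k * c * k⁻¹ = c := by
      simp only at hi hj
      rw [← hi, ← hj]; group
    rw [show v * k * c * (v * k)⁻¹ = v * (k * c * k⁻¹) * v⁻¹ by group, hkc]
    refine hKz _ ⟨mul_mem (mul_mem hv.1 (hzK c ⟨j, hj⟩).1) (inv_mem hv.1), ?_⟩
    have hvt := conj_t_eq hS hv
    calc t * (v * c * v⁻¹) * t⁻¹ = (t * v * t⁻¹) * (t * c * t⁻¹) * (t * v * t⁻¹)⁻¹ := by group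
      _ = v * c⁻¹ * v⁻¹ := by rw [hvt, (hzK c ⟨j, hj⟩).2]
      _ = (v * c * v⁻¹)⁻¹ := by group
  · -- the Galois part of the centralizer of `t`
    let H : Subgroup ↥DD := (DD ⊓ Subgroup.centralizer {t}).subgroupOf DD
    let ψ : H →* Multiplicative (ZMod m) := θ.comp ((QuotientGroup.mk' W).comp H.subtype)
    haveI : IsCyclic ψ.range := Subgroup.isCyclic _
    obtain ⟨⟨_, ⟨v, rfl⟩⟩, hv⟩ := IsCyclic.exists_generator (α := ψ.range)
    refine ⟨((v : ↥DD) : G), v.2, fun x hx => ?_⟩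
    let x' : H := ⟨⟨x, hx.1⟩, hx⟩
    have hmem := hv ⟨ψ x', x', rfl⟩
    rw [← mem_powers_iff_mem_zpowers] at hmem
    obtain ⟨j, hj⟩ := hmem
    have hj' : ψ v ^ j = ψ x' := congrArg Subtype.val hj
    refine ⟨j, ?_⟩
    have hker : ψ (x' * (v ^ j)⁻¹) = 1 := by rw [map_mul, map_inv, map_pow, hj', mul_inv_cancel]
    have hF' : (((x' * (v ^ j)⁻¹ : H) : ↥DD) : ↥DD ⧸ W) ∈ F := by
      rw [← hθ]; exact hker
    have hV : x * ((((v : ↥DD) : G)) ^ j)⁻¹ ∈ DD ⊓ Subgroup.centralizer {t} :=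
      mul_mem hx (inv_mem (pow_mem v.2 j))
    have hwW := hfix ((x' * (v ^ j)⁻¹ : H) : ↥DD) (x' * (v ^ j)⁻¹ : H).2 hF'
    refine ⟨hV, Subgroup.mem_centralizer_iff.2 fun k hk => ?_⟩
    set w : ↥DD := ((x' * (v ^ j)⁻¹ : H) : ↥DD) with hwdef
    have hwx : x * ((((v : ↥DD) : G)) ^ j)⁻¹ = (w : G) := rfl
    rw [hwx]
    have hk2 := hWV _ (Subgroup.Normal.conj_mem hWn w hwW ⟨k, hk.1⟩)
    have h1 : t * (k * (w : G) * k⁻¹) * t⁻¹ = k * (w : G) * k⁻¹ := conj_t_eq hS hk2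
    have h3 : k⁻¹ * (w : G) * k = k * (w : G) * k⁻¹ := by
      calc k⁻¹ * (w : G) * k = (t * k * t⁻¹) * (t * w * t⁻¹) * (t * k * t⁻¹)⁻¹ := by
            rw [hk.2, conj_t_eq hS (hWV w hwW), inv_inv]
        _ = t * (k * (w : G) * k⁻¹) * t⁻¹ := by group
        _ = _ := h1
    refine (commute_of_commute_sq hS.odd_card hk.1 ?_).eq
    show k * k * (w : G) = w * (k * k)
    calc k * k * (w : G) = k * (k * w * k⁻¹) * k := by group
      _ = k * (k⁻¹ * w * k) * k := by rw [h3]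
      _ = w * (k * k) := by group

end Cfsg.Lib.OddTrans
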