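import Cfsg.Agent.Lib.OddTrans.HalfMain
import Cfsg.Agent.Lib.Char.Quotient
import Cfsg.Agent.S4503

/-!
# A Sylow subgroup of prime order in a linear group of small degree

In a group of odd order with a faithful character of odd degree `m` and a subgroup `R` of prime
order `r ≥ 2 m + 1`, `r ^ 2` not dividing the order, with abelian centralizer, `R` is normal.
-/

set_option autoImplicit false
set_option linter.unusedSectionVars false
set_option linter.style.haveILetI false

namespace Cfsg.Lib.OddTrans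

open Cfsg
open scoped ComplexConjugate

universe u

theorem eq_of_le_normalizer {G : Type u} [Group G] [Finite G] {r : ℕ} [hr : Fact r.Prime]
    {Q R : Subgroup G} (hQ : Nat.card Q = r) (hR : Nat.card R = r) (hsq : ¬ r ^ 2 ∣ Nat.card G)
    (h : Q ≤ Subgroup.normalizer (R : Set G)) : Q = R := by
  have hsup : IsPGroup r (Q ⊔ R : Subgroup G) :=
    (IsPGroup.of_card (n := 1) (by rw [hQ, pow_one])).to_sup_of_normal_right'
      (IsPGroup.of_card (n := 1) (by rw [hR, pow_one])) h
  obtain ⟨k, hk⟩ := hsup.exists_card_eq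
  have hk1 : k ≤ 1 := by
    by_contra hc
    exact hsq (((pow_dvd_pow r (by omega : 2 ≤ k))).trans (hk ▸ Subgroup.card_subgroup_dvd_card _))
  have hle : Nat.card (Q ⊔ R : Subgroup G) ≤ r :=
    hk ▸ (Nat.pow_le_pow_right hr.out.one_lt.le hk1).trans (pow_one r).le
  exact (Subgroup.eq_of_le_of_card_ge le_sup_left (hQ ▸ hle)).trans
    (Subgroup.eq_of_le_of_card_ge le_sup_right (hR ▸ hle)).symm

/-- If all constituents of a faithful character have degree less than `(r - 1) / 2`, then the
subgroup of order `r` is normal. -/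
theorem normal_of_constituents {G : Type u} [Group G] [Fintype G] {r : ℕ} [hr : Fact r.Prime]
    {R : Subgroup G} (hR : Nat.card R = r) (hsq : ¬ r ^ 2 ∣ Nat.card G) {χ : G → ℂ}
    (hχ : IsCharacter G χ) (hfaith : ∀ g : G, χ g = χ 1 → g = 1)
    (hsmall : ∀ ψ : IrrCharacter G, classInner χ (ψ : G → ℂ) ≠ 0 →
      2 * charDegree (ψ : G → ℂ) + 1 < r) : R.Normal := by
  classical
  haveI : IsMulCommutative R := (isCyclic_of_prime_card hR).isMulCommutative
  refine Subgroup.normalizer_eq_top_iff.1 ((Subgroup.eq_top_iff' _).2 fun x =>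
    mem_normalizer_of_le hR hsq ?_)
  rintro _ ⟨z, hz, rfl⟩
  refine Subgroup.centralizer_le_normalizer _ (Subgroup.mem_centralizer_iff.2 fun w hw => ?_)
  show w * (x * z * x⁻¹) = x * z * x⁻¹ * w
  suffices h : x * z * x⁻¹ * w * (x * z * x⁻¹)⁻¹ * w⁻¹ = 1 by
    rw [mul_inv_eq_one, mul_inv_eq_iff_eq_mul] at h
    exact h.symm
  refine hfaith _ ?_
  rw [Char.eq_sum_classInner hχ.isClassFunction]
  simp only [Finset.sum_apply, Pi.smul_apply, smul_eq_mul]
  refine Finset.sum_congr rfl fun ψ _ => ?_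
  by_cases h0 : classInner χ (ψ : G → ℂ) = 0
  · rw [h0, zero_mul, zero_mul]
  congr 1
  set K := Char.charKer ψ.2.isCharacter with hK
  haveI : K.Normal := Char.charKer_normal _
  refine (Char.mem_charKer ψ.2.isCharacter).1 ?_
  rw [← hK, ← QuotientGroup.eq_one_iff]
  set f := QuotientGroup.mk' K with hf
  show f (x * z * x⁻¹ * w * (x * z * x⁻¹)⁻¹ * w⁻¹) = 1
  by_cases hRK : R ≤ K
  · have h1 : f z = 1 := (QuotientGroup.eq_one_iff z).2 (hRK hz)
    have h2 : f w = 1 := (QuotientGroup.eq_one_iff w).2 (hRK hw)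
    simp only [map_mul, map_inv, h1, h2]
    group
  have hinf : K ⊓ R = ⊥ := by
    refine eq_bot_iff.2 fun y hy => ?_
    by_contra h1
    refine hRK fun v hv => ?_
    obtain ⟨k, hk⟩ := mem_zpowers_of_prime_card (g := (⟨y, hy.2⟩ : R)) (g' := (⟨v, hv⟩ : R)) hR
      (fun e => h1 (congrArg Subtype.val e))
    rw [show v = y ^ k from (congrArg Subtype.val hk).symm]
    exact K.zpow_mem hy.1 k
  have hQ : Nat.card (R.map f) = r := by
    rw [← hR]
    refine (Nat.card_congr (Equiv.ofBijective (fun a : R => (⟨f a, a, a.2, rfl⟩ : R.map f))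
      ⟨fun a b h => ?_, fun ⟨_, a, ha, e⟩ => ⟨⟨a, ha⟩, Subtype.ext e⟩⟩)).symm
    have h' : f (a : G) = f b := congrArg Subtype.val h
    have hm : (a : G)⁻¹ * b ∈ K ⊓ R :=
      ⟨QuotientGroup.eq.1 h', R.mul_mem (R.inv_mem a.2) b.2⟩
    rw [hinf, Subgroup.mem_bot, inv_mul_eq_one] at hm
    exact Subtype.ext hm
  obtain ⟨ψ', hψ', he⟩ := Char.exists_deflate K ψ.2.isCharacter
    fun n hn => (Char.mem_charKer ψ.2.isCharacter).1 hn
  have hfaith' : ∀ q : G ⧸ K, ψ' q = ψ' 1 → q = 1 := by
    intro q hq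
    obtain ⟨g, rfl⟩ := QuotientGroup.mk_surjective q
    rw [← QuotientGroup.mk_one, he, he] at hq
    exact (QuotientGroup.eq_one_iff g).2 ((Char.mem_charKer ψ.2.isCharacter).2 hq)
  have hdeg : charDegree ψ' = charDegree (ψ : G → ℂ) := by
    refine Lib.Block.charDegree_eq_of_apply_one ?_
    rw [← QuotientGroup.mk_one, he]
    exact ψ.2.apply_one_eq_charDegree
  have hsq' : ¬ r ^ 2 ∣ Nat.card (G ⧸ K) := fun h => hsq (h.trans (Subgroup.card_quotient_dvd_card K))
  obtain ⟨H, hH, hHc⟩ : ∃ H : Subgroup (G ⧸ K), H.Normal ∧ Nat.card H = r := by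
    by_contra hcon
    push Not at hcon
    have := Cfsg.Agent.S4503.result r hr.out (hQ ▸ Subgroup.card_subgroup_dvd_card _) hsq' hcon ψ' hψ'
      hfaith'
    have := hsmall ψ h0
    omega
  haveI := hH
  have hRH : R.map f = H := eq_of_le_normalizer hQ hHc hsq' (by rw [Subgroup.normalizer_eq_top]; exact le_top)
  haveI : IsMulCommutative H := (isCyclic_of_prime_card hHc).isMulCommutative
  have h1 : f (x * z * x⁻¹) ∈ H := by
    rw [map_mul, map_mul, map_inv]
    exact hH.conj_mem _ (hRH ▸ Subgroup.mem_map_of_mem f hz) _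
  have h2 : f w ∈ H := hRH ▸ Subgroup.mem_map_of_mem f hw
  have h3 : f (x * z * x⁻¹) * f w = f w * f (x * z * x⁻¹) :=
    Subgroup.mem_centralizer_iff.1 (Subgroup.le_centralizer H h2) _ h1
  rw [map_mul, map_mul (f := f) (x * z * x⁻¹ * w), map_inv, map_inv, map_mul (f := f) (x * z * x⁻¹) w,
    h3, mul_inv_cancel_right, mul_inv_cancel]

/-- The main lemma on faithful characters of degree at most `(r - 1) / 2`. -/
theorem normal_of_degree {G : Type u} [Group G] [Fintype G] {r m : ℕ} [hr : Fact r.Prime]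
    {R : Subgroup G} (hR : Nat.card R = r) (hsq : ¬ r ^ 2 ∣ Nat.card G) (hodd : Odd (Nat.card G))
    (hm : Odd m) (hle : 2 * m + 1 ≤ r)
    (hcomm : ∀ a b : Subgroup.centralizer (R : Set G), a * b = b * a)
    {χ : G → ℂ} (hχ : IsCharacter G χ) (hdeg : χ 1 = m) (hfaith : ∀ g : G, χ g = χ 1 → g = 1)
    (hscal : r = 2 * m + 1 → ∀ (g : G) (ζ : ℂ), χ g = m * ζ → ‖ζ‖ = 1 → ζ ^ 3 = 1) :
    R.Normal := by
  suffices key : ∀ (n : ℕ) (K : Subgroup G), Nat.card K = n → R ≤ K →
      K ≤ Subgroup.normalizer (R : Set G) from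
    Subgroup.normalizer_eq_top_iff.1 (top_le_iff.1 (key _ ⊤ rfl le_top))
  intro n
  induction n using Nat.strong_induction_on with
  | _ n ih =>
  intro K hK hRK
  by_contra hnot
  classical
  haveI : Fintype K := Fintype.ofFinite _
  have hR' : Nat.card (R.subgroupOf K) = r :=
    (Nat.card_congr (Subgroup.subgroupOfEquivOfLe hRK).toEquiv).trans hR
  have hsq' : ¬ r ^ 2 ∣ Nat.card K := fun h => hsq (h.trans (Subgroup.card_subgroup_dvd_card K))
  have hnn : ¬ (R.subgroupOf K).Normal := fun h =>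
    hnot ((Subgroup.normal_subgroupOf_iff_le_normalizer hRK).1 h)
  have hχ' : IsCharacter K (fun k : K => χ k) := hχ.comp K.subtype
  have hdeg' : (fun k : K => χ k) 1 = (m : ℂ) := hdeg
  have hfaith' : ∀ k : K, (fun k : K => χ k) k = (fun k : K => χ k) 1 → k = 1 := fun k h =>
    Subtype.ext (hfaith k h)
  -- the constituents
  choose k hk using fun ψ : IrrCharacter K => hχ'.exists_nat_classInner ψ.2.isCharacter
  have hsum : ∑ ψ : IrrCharacter K, k ψ * charDegree (ψ : K → ℂ) = m := by
    have h := congrFun (Char.eq_sum_classInner hχ'.isClassFunction) 1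
    simp only [Finset.sum_apply, Pi.smul_apply, smul_eq_mul, hk] at h
    rw [show χ ((1 : K) : G) = (m : ℂ) from hdeg'] at h
    refine Nat.cast_injective (R := ℂ) ?_
    rw [h, Nat.cast_sum]
    exact Finset.sum_congr rfl fun ψ _ => by rw [Nat.cast_mul, ψ.2.apply_one_eq_charDegree]
  have hsing : ∀ ψ : IrrCharacter K, k ψ ≠ 0 → charDegree (ψ : K → ℂ) ≤ m := fun ψ h =>
    hsum ▸ ((Nat.le_mul_of_pos_left _ (Nat.pos_of_ne_zero h)).trans
      (Finset.single_le_sum (f := fun φ : IrrCharacter K => k φ * charDegree (φ : K → ℂ))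
        (fun φ _ => Nat.zero_le _) (Finset.mem_univ ψ)))
  have hne : ∀ ψ : IrrCharacter K, classInner (fun k : K => χ k) (ψ : K → ℂ) ≠ 0 → k ψ ≠ 0 :=
    fun ψ h e => h (by rw [hk, e, Nat.cast_zero])
  by_cases hbig : ∃ ψ : IrrCharacter K, k ψ ≠ 0 ∧ r ≤ 2 * charDegree (ψ : K → ℂ) + 1
  · obtain ⟨ψ, hψ, hψr⟩ := hbig
    have hdm : charDegree (ψ : K → ℂ) = m := le_antisymm (hsing ψ hψ) (by omega)
    have hrm : r = 2 * m + 1 := by omega
    have hm0 : 0 < m := hm.pos
    rw [← Finset.add_sum_erase _ _ (Finset.mem_univ ψ), hdm] at hsum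
    have hkm : m ≤ k ψ * m := Nat.le_mul_of_pos_left m (Nat.pos_of_ne_zero hψ)
    have hk1 : k ψ = 1 := Nat.eq_of_mul_eq_mul_right hm0 (by omega : k ψ * m = 1 * m)
    have hothers : ∀ φ : IrrCharacter K, φ ≠ ψ → k φ = 0 := by
      intro φ hφ
      have h0 : ∑ φ ∈ Finset.univ.erase ψ, k φ * charDegree (φ : K → ℂ) = 0 := by omega
      have h1 := Finset.sum_eq_zero_iff.1 h0 φ (Finset.mem_erase.2 ⟨hφ, Finset.mem_univ _⟩)
      refine (Nat.mul_eq_zero.1 h1).resolve_right fun h2 => ?_
      exact φ.2.apply_one_ne_zero (by rw [φ.2.apply_one_eq_charDegree, h2, Nat.cast_zero])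
    have heq : (fun k : K => χ k) = (ψ : K → ℂ) := by
      rw [Char.eq_sum_classInner hχ'.isClassFunction, Finset.sum_eq_single ψ
        (fun φ _ hφ => by rw [hk, hothers φ hφ, Nat.cast_zero, zero_smul]) (by simp),
        hk, hk1, Nat.cast_one, one_smul]
    have hirr : IsIrrCharacter K (fun k : K => χ k) := heq ▸ ψ.2
    rcases Nat.lt_or_ge 1 m with hm1 | hm1
    · have hS : HalfSetting r m (R.subgroupOf K) (fun k : K => χ k) :=
        { card := hR'
          two_mul := hrm
          one_lt := hm1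
          m_odd := hm
          odd := Odd.of_dvd_nat hodd (Subgroup.card_subgroup_dvd_card K)
          sylow := hsq'
          notNormal := hnn
          maxi := by
            intro H hH hRH
            have hlt : Nat.card (H.map K.subtype) < n := by
              rw [Subgroup.card_map_of_injective K.subtype_injective, ← hK]
              exact lt_of_le_of_ne (Nat.le_of_dvd Nat.card_pos (Subgroup.card_subgroup_dvd_card H))
                (mt (Subgroup.eq_top_of_card_eq H) hH)
            have hle' := ih _ hlt (H.map K.subtype) rfl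
              (fun y hy => ⟨⟨y, hRK hy⟩, hRH (Subgroup.mem_subgroupOf.2 hy), rfl⟩)
            intro h hh
            refine Subgroup.mem_normalizer_iff.2 fun y => ?_
            have := Subgroup.mem_normalizer_iff.1 (hle' ⟨h, hh, rfl⟩) (y : G)
            exact this
          comm := by
            intro a b
            refine Subtype.ext (Subtype.ext ?_)
            have hmem : ∀ c : Subgroup.centralizer (R.subgroupOf K : Set K),
                ((c : K) : G) ∈ Subgroup.centralizer (R : Set G) := fun c =>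
              Subgroup.mem_centralizer_iff.2 fun y hy => congrArg Subtype.val
                (Subgroup.mem_centralizer_iff.1 c.2 ⟨y, hRK hy⟩ (Subgroup.mem_subgroupOf.2 hy))
            have h2 := congrArg Subtype.val (hcomm ⟨((a : K) : G), hmem a⟩ ⟨((b : K) : G), hmem b⟩)
            simpa using h2
          irr := hirr
          deg := hdeg'
          faith := hfaith'
          scal := fun g ζ h => hscal hrm g ζ h }
      exact hS.absurd
    · obtain ⟨l, hl⟩ := Char.exists_hom_of_degree_one hχ'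
        (hdeg'.trans (by rw [show m = 1 by omega, Nat.cast_one]))
      refine hnn ⟨fun y hy g => ?_⟩
      have h1 : g * y * g⁻¹ * y⁻¹ = 1 := by
        refine hfaith' _ ?_
        refine (congrFun hl _).trans (Eq.trans ?_ (congrFun hl _).symm)
        rw [map_one, map_mul, map_mul, map_mul, map_inv, map_inv, mul_comm (l g) (l y),
          mul_inv_cancel_right, mul_inv_cancel]
      rw [mul_inv_eq_one] at h1
      rw [h1]; exact hy
  · push Not at hbig
    exact hnn (normal_of_constituents hR' hsq' hχ' hfaith' fun ψ h => hbig ψ (hne ψ h))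

end Cfsg.Lib.OddTrans
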