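import Cfsg.Agent.Lib.OddTrans.Small
import Cfsg.Agent.Lib.OddTrans.Lift
import Cfsg.Agent.Lib.Char.ScalarRestriction
import Cfsg.Agent.S0144
import Cfsg.Agent.S0899
import Cfsg.Agent.S2904
import Mathlib.LinearAlgebra.Matrix.GeneralLinearGroup.Card
import Mathlib.GroupTheory.Transfer
import Mathlib.RingTheory.IntegralDomain

/-!
# Transitive linear groups of odd order in characteristic two are solvable

The proof does not use the theorem of Feit and Thompson: a group of odd order transitive on the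
non-zero vectors has a normal subgroup of primitive prime order, by the character theory of
`Small`.
-/

set_option autoImplicit false
set_option linter.unusedSectionVars false
set_option linter.style.haveILetI false

namespace Cfsg.Lib.OddTrans

open Cfsg Module
open scoped ComplexConjugate

universe u v

section Scalar

variable {G : Type u} [Group G] [Fintype G]

theorem scalar_pow {ψ : G → ℂ} (hψ : IsIrrCharacter G ψ) {d : ℕ} (hd : ψ 1 = d) {g : G}
    (h : ‖ψ g‖ = d) :
    ∃ ζ : ℂ, ‖ζ‖ = 1 ∧ (∀ k : ℕ, ψ (g ^ k) = d * ζ ^ k) ∧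
      ∀ x : G, ψ (x * g * x⁻¹ * g⁻¹) = ψ 1 := by
  obtain ⟨n, ρ, hρ, rfl⟩ := hψ
  rw [Representation.char_one] at hd
  obtain ⟨c, hc⟩ := (Char.norm_character_eq_iff ρ g).1 (by
    rw [h]; exact_mod_cast (Nat.cast_injective (R := ℂ) hd).symm)
  haveI : Nontrivial (Fin n → ℂ) := ((Char.isIrreducible_iff_submodule ρ).1 hρ).1
  refine ⟨c, Char.norm_scalar_eq_one ρ hc, fun k => ?_, fun x => ?_⟩
  · rw [Representation.character, map_pow, hc, show (LinearMap.id : (Fin n → ℂ) →ₗ[ℂ] _) = 1 from rfl,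
      smul_pow, one_pow, map_smul, LinearMap.trace_one, hd, smul_eq_mul, mul_comm]
  · rw [Representation.char_one, Char.character_eq_finrank_iff, map_mul, map_mul, map_mul, hc]
    refine LinearMap.ext fun v => ?_
    have h2 : c • ρ g⁻¹ v = v := by
      have := LinearMap.congr_fun hc (ρ g⁻¹ v)
      rw [ρ.self_inv_apply] at this
      exact this.symm
    simp only [Module.End.mul_apply, LinearMap.smul_apply, LinearMap.id_apply, map_smul,
      ρ.self_inv_apply]
    exact h2

theorem norm_of_central {ψ : G → ℂ} (hψ : IsIrrCharacter G ψ) {d : ℕ} (hd : ψ 1 = d) {g : G}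
    (h : g ∈ Subgroup.center G) : ‖ψ g‖ = d := by
  obtain ⟨n, ρ, hρ, rfl⟩ := hψ
  rw [Representation.char_one] at hd
  rw [show (d : ℝ) = (finrank ℂ (Fin n → ℂ) : ℝ) by exact_mod_cast (Nat.cast_injective (R := ℂ) hd).symm,
    Char.norm_character_eq_iff]
  have h1 : Char.classFinset g = {g} := by
    ext x
    rw [Char.mem_classFinset, Finset.mem_singleton]
    refine ⟨fun hx => ?_, fun hx => hx ▸ IsConj.refl g⟩
    obtain ⟨c, hc⟩ := isConj_iff.1 hx
    rw [← hc, Subgroup.mem_center_iff.1 h c, mul_inv_cancel_right]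
  have h2 := Char.sum_class_smul ρ g
  rw [h1, Finset.sum_singleton] at h2
  exact ⟨_, h2⟩

/-- The norm of a central value which is invariant under squaring. -/
theorem cube_of_pair {ζ ξ : ℂ} (hξ : ξ ≠ 0) (hζ : ζ ≠ 0) (h2 : ζ ^ 2 + ξ ^ 2 = ζ + ξ)
    (h4 : ζ ^ 4 + ξ ^ 4 = ζ + ξ) : ζ ^ 3 = 1 := by
  have hq : 2 * (ζ * ξ) * (ζ * ξ - 1) = 0 := by
    linear_combination (ζ ^ 2 + ξ ^ 2 + ζ + ξ + 1) * h2 - h4
  have hq1 : ζ * ξ = 1 := sub_eq_zero.1
    ((mul_eq_zero.1 hq).resolve_left (mul_ne_zero two_ne_zero (mul_ne_zero hζ hξ)))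
  have hp : (ζ + ξ - 2) * (ζ + ξ + 1) = 0 := by linear_combination h2 + 2 * hq1
  rcases mul_eq_zero.1 hp with h | h
  · have h1 : (ζ - 1) ^ 2 = 0 := by linear_combination ζ * h - hq1
    rw [sub_eq_zero.1 (pow_eq_zero_iff two_ne_zero |>.1 h1), one_pow]
  · linear_combination (ζ - 1) * ζ * h - (ζ - 1) * hq1

end Scalar

section Transitive

variable {D : Type u} {E : Type v} [Group D] [Fintype D] [AddCommGroup E] [Finite E]
  [DistribMulAction D E] [FaithfulSMul D E]

/-- The vectors fixed by a subgroup. -/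
def fixSub (H : Subgroup D) : AddSubgroup E where
  carrier := {w | ∀ h ∈ H, h • w = w}
  zero_mem' h _ := smul_zero h
  add_mem' ha hb h hh := by rw [smul_add, ha h hh, hb h hh]
  neg_mem' ha h hh := by rw [smul_neg, ha h hh]

theorem eq_one_of_fix_all {g : D} (h : ∀ w : E, g • w = w) : g = 1 :=
  eq_of_smul_eq_smul fun w : E => by rw [h, one_smul]

theorem fix_eq_zero (htrans : ∀ a b : E, a ≠ 0 → b ≠ 0 → ∃ d : D, d • a = b) {N : Subgroup D}
    (hN : N.Normal) (hne : N ≠ ⊥) {w : E} (hw : ∀ h ∈ N, h • w = w) : w = 0 := by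
  by_contra h0
  refine hne ((Subgroup.eq_bot_iff_forall _).2 fun g hg => eq_one_of_fix_all fun v : E => ?_)
  by_cases hv : v = 0
  · rw [hv, smul_zero]
  obtain ⟨d, rfl⟩ := htrans w v h0 hv
  have := hw _ (hN.conj_mem g hg d⁻¹)
  rw [inv_inv, mul_smul, mul_smul] at this
  exact inv_smul_eq_iff.1 this

theorem card_sub_pow {n : ℕ} (hn : Nat.card E = 2 ^ n) (W : AddSubgroup E) :
    ∃ k ≤ n, Nat.card W = 2 ^ k :=
  (Nat.dvd_prime_pow Nat.prime_two).1 (hn ▸ W.card_addSubgroup_dvd_card)

theorem card_modEq {r : ℕ} [hr : Fact r.Prime] {R : Subgroup D} (hR : Nat.card R = r)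
    (W : AddSubgroup E) (hW : ∀ z ∈ R, ∀ w ∈ W, z • w ∈ W) :
    Nat.card W ≡ Nat.card (W ⊓ fixSub R : AddSubgroup E) [MOD r] := by
  letI act : MulAction R W :=
    { smul := fun z w => ⟨(z : D) • (w : E), hW z z.2 w w.2⟩
      one_smul := fun w => Subtype.ext (one_smul D (w : E))
      mul_smul := fun a b w => Subtype.ext (mul_smul (a : D) (b : D) (w : E)) }
  have h := (IsPGroup.of_card (n := 1) (by rw [hR, pow_one]) : IsPGroup r R).card_modEq_card_fixedPoints W
  refine h.trans (congrArg (· % r) (Nat.card_congr ?_))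
  exact
    { toFun := fun w => ⟨w.1.1, w.1.2, fun z hz => congrArg Subtype.val (w.2 ⟨z, hz⟩)⟩
      invFun := fun w => ⟨⟨w.1, w.2.1⟩, fun z => Subtype.ext (w.2.2 z z.2)⟩
      left_inv := fun _ => rfl
      right_inv := fun _ => rfl }

/-- A prime `r` dividing `2 ^ n - 1` and no smaller `2 ^ k - 1`. -/
structure Primitive (n r : ℕ) : Prop where
  dvd : r ∣ 2 ^ n - 1
  min : ∀ k : ℕ, 0 < k → k < n → ¬ r ∣ 2 ^ k - 1

variable {n r : ℕ} [hr : Fact r.Prime] (hcard : Nat.card E = 2 ^ n) (hp : Primitive n r)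

include hp in
theorem eq_zero_or_eq_of_modEq {k : ℕ} (hk : k ≤ n) (h : 2 ^ k ≡ 1 [MOD r]) : k = 0 ∨ k = n := by
  by_contra hcon
  exact hp.min k (by omega) (by omega) ((Nat.modEq_iff_dvd' Nat.one_le_two_pow).1 h.symm)

include hcard hp in
theorem fixSub_eq_bot {R : Subgroup D} (hR : Nat.card R = r) : (fixSub R : AddSubgroup E) = ⊥ := by
  have h := card_modEq hR (⊤ : AddSubgroup E) fun _ _ _ _ => AddSubgroup.mem_top _
  rw [AddSubgroup.card_top, top_inf_eq, hcard] at h
  obtain ⟨k, hk, hkc⟩ := card_sub_pow hcard (fixSub R : AddSubgroup E)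
  rw [hkc] at h
  have h1 : 2 ^ n ≡ 1 [MOD r] := ((Nat.modEq_iff_dvd' Nat.one_le_two_pow).2 hp.dvd).symm
  rcases eq_zero_or_eq_of_modEq hp hk (h.symm.trans h1) with rfl | rfl
  · exact AddSubgroup.card_eq_one.1 (by rw [hkc, pow_zero])
  · have htop := AddSubgroup.eq_top_of_card_eq (fixSub R : AddSubgroup E) (hkc.trans hcard.symm)
    have : R = ⊥ := (Subgroup.eq_bot_iff_forall _).2 fun g hg => eq_one_of_fix_all fun w : E =>
      (htop ▸ AddSubgroup.mem_top w : w ∈ fixSub R) g hg
    rw [this, Subgroup.card_bot] at hR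
    exact absurd hR hr.out.one_lt.ne

include hcard hp in
theorem closure_orbit {R : Subgroup D} (hR : Nat.card R = r) {w : E} (hw : w ≠ 0) :
    AddSubgroup.closure (Set.range fun z : R => (z : D) • w) = ⊤ := by
  set W := AddSubgroup.closure (Set.range fun z : R => (z : D) • w) with hW
  have hinv : ∀ z ∈ R, ∀ u ∈ W, z • u ∈ W := by
    intro z hz u hu
    induction hu using AddSubgroup.closure_induction with
    | mem x hx =>
      obtain ⟨y, rfl⟩ := hx
      exact AddSubgroup.subset_closure ⟨⟨z, hz⟩ * y, mul_smul z (y : D) w⟩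
    | zero => rw [smul_zero]; exact zero_mem _
    | add x y _ _ hx hy => rw [smul_add]; exact add_mem hx hy
    | neg x _ hx => rw [smul_neg]; exact neg_mem hx
  have h := card_modEq hR W hinv
  rw [fixSub_eq_bot hcard hp hR, inf_bot_eq, AddSubgroup.card_bot] at h
  obtain ⟨k, hk, hkc⟩ := card_sub_pow hcard W
  rw [hkc] at h
  rcases eq_zero_or_eq_of_modEq hp hk h with rfl | rfl
  · have hbot : W = ⊥ := AddSubgroup.card_eq_one.1 (by rw [hkc, pow_zero])
    have : w ∈ W := AddSubgroup.subset_closure ⟨1, one_smul D w⟩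
    rw [hbot, AddSubgroup.mem_bot] at this
    exact absurd this hw
  · exact AddSubgroup.eq_top_of_card_eq W (hkc.trans hcard.symm)

include hcard hp in
theorem isCyclic_centralizer [Nontrivial E] {R : Subgroup D} (hR : Nat.card R = r) :
    IsCyclic (Subgroup.centralizer (R : Set D)) := by
  haveI : IsMulCommutative R := (isCyclic_of_prime_card hR).isMulCommutative
  set φ := DistribMulAction.toAddMonoidEnd D E with hφ
  have hφa : ∀ g (w : E), φ g w = g • w := fun _ _ => rfl
  set S := Subring.centralizer (Set.range fun z : R => φ z) with hS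
  have hcomm : ∀ f ∈ S, ∀ (z : R) (u : E), f ((z : D) • u) = (z : D) • f u := fun f hf z u =>
    (DFunLike.congr_fun (Subring.mem_centralizer_iff.1 hf (φ z) ⟨z, rfl⟩) u).symm
  have heq : ∀ f ∈ S, ∀ h ∈ S, ∀ w : E, w ≠ 0 → f w = h w → f = h := by
    intro f hf h hh w hw he
    refine AddMonoidHom.ext fun u => ?_
    have hu : u ∈ AddSubgroup.closure (Set.range fun z : R => (z : D) • w) :=
      closure_orbit hcard hp hR hw ▸ AddSubgroup.mem_top u
    induction hu using AddSubgroup.closure_induction with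
    | mem x hx =>
      obtain ⟨z, rfl⟩ := hx
      exact (hcomm f hf z w).trans ((congrArg _ he).trans (hcomm h hh z w).symm)
    | zero => exact (AddMonoidHom.map_zero f).trans (AddMonoidHom.map_zero h).symm
    | add x y _ _ hx hy =>
      exact (AddMonoidHom.map_add f x y).trans
        ((congrArg₂ (· + ·) hx hy).trans (AddMonoidHom.map_add h x y).symm)
    | neg x _ hx =>
      exact (AddMonoidHom.map_neg f x).trans ((congrArg Neg.neg hx).trans (AddMonoidHom.map_neg h x).symm)
  obtain ⟨v₀, hv₀⟩ := exists_ne (0 : E)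
  have hSc : ∀ f ∈ S, ∀ g ∈ S, f * g = g * f := by
    intro f hf g hg
    have key : ∀ u ∈ AddSubgroup.closure (Set.range fun z : R => (z : D) • v₀),
        ∃ h ∈ S, h v₀ = u ∧ h * g = g * h := by
      intro u hu
      induction hu using AddSubgroup.closure_induction with
      | mem x hx =>
        obtain ⟨z, rfl⟩ := hx
        refine ⟨φ z, Subring.mem_centralizer_iff.2 ?_, rfl,
          Subring.mem_centralizer_iff.1 hg (φ z) ⟨z, rfl⟩⟩
        rintro _ ⟨y, rfl⟩
        rw [← map_mul, ← map_mul]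
        exact congrArg (fun a : R => φ (a : D)) (IsMulCommutative.is_comm.comm y z)
      | zero => exact ⟨0, zero_mem _, rfl, by rw [zero_mul, mul_zero]⟩
      | add x y _ _ hx hy =>
        obtain ⟨a, ha, rfl, hax⟩ := hx
        obtain ⟨b, hb, rfl, hbx⟩ := hy
        exact ⟨a + b, add_mem ha hb, rfl, by rw [add_mul, mul_add, hax, hbx]⟩
      | neg x _ hx =>
        obtain ⟨a, ha, rfl, hax⟩ := hx
        exact ⟨-a, neg_mem ha, rfl, by rw [neg_mul, mul_neg, hax]⟩
    obtain ⟨h, hh, he, hhg⟩ := key (f v₀) (closure_orbit hcard hp hR hv₀ ▸ AddSubgroup.mem_top _)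
    rwa [heq f hf h hh v₀ hv₀ he.symm]
  letI : CommRing S :=
    { (inferInstance : Ring S) with mul_comm := fun a b => Subtype.ext (hSc a a.2 b b.2) }
  haveI : Nontrivial S := ⟨⟨0, 1, fun e => hv₀
    (DFunLike.congr_fun (congrArg Subtype.val e) v₀).symm⟩⟩
  haveI : NoZeroDivisors S := ⟨fun {a b} hab => by
    by_contra hcon
    rw [not_or] at hcon
    obtain ⟨hane, hbne⟩ := hcon
    obtain ⟨w, hw⟩ : ∃ w, (b : AddMonoid.End E) w ≠ 0 := by
      by_contra h
      push Not at h
      exact hbne (Subtype.ext (AddMonoidHom.ext h))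
    refine hane (Subtype.ext (heq a a.2 0 (zero_mem _) _ hw ?_))
    exact DFunLike.congr_fun (congrArg Subtype.val hab) w⟩
  haveI : IsDomain S := NoZeroDivisors.to_isDomain _
  let f : Subgroup.centralizer (R : Set D) →* S :=
    { toFun := fun c => ⟨φ c, Subring.mem_centralizer_iff.2 (by
        rintro _ ⟨z, rfl⟩
        rw [← map_mul, ← map_mul, Subgroup.mem_centralizer_iff.1 c.2 z z.2])⟩
      map_one' := Subtype.ext (map_one φ)
      map_mul' := fun a b => Subtype.ext (map_mul φ _ _) }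
  refine isCyclic_of_subgroup_isDomain f fun a b h => Subtype.ext (eq_of_smul_eq_smul fun w : E => ?_)
  exact DFunLike.congr_fun (congrArg Subtype.val h) w

/-- Two subgroups of order `r` in a cyclic group agree. -/
theorem eq_of_card_of_le_cyclic {C A B : Subgroup D} [IsCyclic C] (hA : Nat.card A = r)
    (hB : Nat.card B = r) (hAC : A ≤ C) (hBC : B ≤ C) : A = B := by
  classical
  set s := Finset.univ.filter fun a : C => a ^ r = 1
  have hmem : ∀ X : Subgroup D, Nat.card X = r → ∀ x ∈ X, ∀ hx : x ∈ C, (⟨x, hx⟩ : C) ∈ s := by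
    intro X hX x hxX hx
    refine Finset.mem_filter.2 ⟨Finset.mem_univ _, Subtype.ext ?_⟩
    rw [SubmonoidClass.coe_pow, ← hX]
    exact congrArg Subtype.val (pow_card_eq_one' (x := (⟨x, hxX⟩ : X)))
  have hsub : ∀ X : Subgroup D, Nat.card X = r → X ≤ C →
      Finset.univ.filter (fun a : C => (a : D) ∈ X) = s := by
    intro X hX hXC
    refine Finset.eq_of_subset_of_card_le (fun a ha => hmem X hX _ (Finset.mem_filter.1 ha).2 a.2) ?_
    refine (IsCyclic.card_pow_eq_one_le hr.out.pos).trans (le_of_eq ?_)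
    rw [← Fintype.card_subtype, ← Nat.card_eq_fintype_card, ← hX]
    exact Nat.card_congr ⟨fun x => ⟨⟨x.1, hXC x.2⟩, x.2⟩, fun a => ⟨a.1.1, a.2⟩, fun _ => rfl,
      fun _ => rfl⟩
  refine Subgroup.eq_of_le_of_card_ge (fun x hx => ?_) (le_of_eq (hB.trans hA.symm))
  have h := hmem A hA x hx (hAC hx)
  rw [← hsub B hB hBC] at h
  exact (Finset.mem_filter.1 h).2

omit hr

/-- The lifted character and its constituents. -/
theorem exists_lifted [Nontrivial E] (hodd : Odd (Nat.card D)) (hE : ∀ w : E, 2 • w = 0)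
    (htrans : ∀ a b : E, a ≠ 0 → b ≠ 0 → ∃ d : D, d • a = b) :
    ∃ (m : ℕ) (χ : D → ℂ) (k : IrrCharacter D → ℕ), 0 < m ∧ IsCharacter D χ ∧
      Nat.card E = 2 ^ m ∧ (∀ g, χ (g * g) = χ g) ∧ (∀ g, χ g = χ 1 → g = 1) ∧
      (∀ g, χ g = ∑ ψ : IrrCharacter D, (k ψ : ℂ) * (ψ : D → ℂ) g) ∧
      ∑ ψ : IrrCharacter D, k ψ * charDegree (ψ : D → ℂ) = m ∧
      ∀ ψ : IrrCharacter D, k ψ ≠ 0 → ∀ g : D, (ψ : D → ℂ) g = (ψ : D → ℂ) 1 → g = 1 := by
  classical
  obtain ⟨v₀, hv₀⟩ := exists_ne (0 : E)
  obtain ⟨m, χ, hχ, hm, h1, hsq, hfix⟩ :=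
    exists_character hodd hE v₀ fun w hw => htrans v₀ w hv₀ hw
  have hm0 : 0 < m := by
    by_contra h
    have := Finite.one_lt_card (α := E)
    rw [hm, show m = 0 by omega] at this
    simp at this
  choose k hk using fun ψ : IrrCharacter D => hχ.exists_nat_classInner ψ.2.isCharacter
  have hexp : ∀ g, χ g = ∑ ψ : IrrCharacter D, (k ψ : ℂ) * (ψ : D → ℂ) g := by
    intro g
    have := congrFun (Char.eq_sum_classInner hχ.isClassFunction) g
    simpa only [Finset.sum_apply, Pi.smul_apply, smul_eq_mul, hk] using this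
  have hdeg : ∑ ψ : IrrCharacter D, k ψ * charDegree (ψ : D → ℂ) = m := by
    refine Nat.cast_injective (R := ℂ) ?_
    rw [← h1, hexp, Nat.cast_sum]
    exact Finset.sum_congr rfl fun ψ _ => by rw [Nat.cast_mul, ψ.2.apply_one_eq_charDegree]
  -- a normal subgroup in the kernel of a constituent is trivial
  have hker : ∀ N : Subgroup D, N.Normal → N ≠ ⊥ → ∀ ψ : IrrCharacter D, k ψ ≠ 0 →
      ¬ ∀ x ∈ N, (ψ : D → ℂ) x = (ψ : D → ℂ) 1 := by
    intro N hN hne ψ hψ hx
    haveI : Fintype N := Fintype.ofFinite N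
    have h0 := hfix N fun w hw => fix_eq_zero htrans hN hne hw
    choose j hj using fun φ : IrrCharacter D =>
      (φ.2.isCharacter.comp N.subtype).exists_nat_classInner (Char.isCharacter_one (G := N))
    have hsum : ∀ φ : IrrCharacter D, ∑ x : N, (φ : D → ℂ) x = (Nat.card N : ℂ) * j φ := by
      intro φ
      have := hj φ
      simp only [classInner, map_one, mul_one, Subgroup.coe_subtype] at this
      rw [← this, mul_inv_cancel_left₀ (by exact_mod_cast Nat.card_pos.ne')]
    simp only [hexp] at h0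
    rw [Finset.sum_comm] at h0
    simp only [← Finset.mul_sum, hsum] at h0
    have hnat : ∑ φ : IrrCharacter D, k φ * (Nat.card N * j φ) = 0 := by exact_mod_cast h0
    have hz := Finset.sum_eq_zero_iff.1 hnat ψ (Finset.mem_univ _)
    have hz2 := hsum ψ
    rw [Finset.sum_congr rfl fun (x : N) _ => hx x x.2, Finset.sum_const, Finset.card_univ, nsmul_eq_mul,
      ← Nat.card_eq_fintype_card, ψ.2.apply_one_eq_charDegree] at hz2
    have hz3 : Nat.card N * j ψ = 0 := (Nat.mul_eq_zero.1 hz).resolve_left hψ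
    have hz4 : Nat.card N * charDegree (ψ : D → ℂ) = 0 := by
      rw [← hz3]; exact_mod_cast hz2
    refine ψ.2.apply_one_ne_zero ?_
    rw [ψ.2.apply_one_eq_charDegree, (Nat.mul_eq_zero.1 hz4).resolve_left Nat.card_pos.ne',
      Nat.cast_zero]
  refine ⟨m, χ, k, hm0, hχ, hm, hsq, fun g hg => ?_, hexp, hdeg, fun ψ hψ g hg => ?_⟩
  · by_contra hg1
    have hne : Char.charKer hχ ≠ ⊥ := fun e => hg1 (Subgroup.mem_bot.1 (e ▸ hg))
    haveI : Fintype (Char.charKer hχ) := Fintype.ofFinite _
    have h0 := hfix _ fun w hw => fix_eq_zero htrans (Char.charKer_normal hχ) hne hw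
    rw [Finset.sum_congr rfl fun x _ => (Char.mem_charKer hχ).1 x.2, Finset.sum_const,
      Finset.card_univ, nsmul_eq_mul, h1, ← Nat.card_eq_fintype_card] at h0
    exact mul_ne_zero (Nat.cast_ne_zero.2 Nat.card_pos.ne') (Nat.cast_ne_zero.2 hm0.ne') h0
  · by_contra hg1
    exact hker _ (Char.charKer_normal ψ.2.isCharacter) (fun e => hg1 (Subgroup.mem_bot.1 (e ▸ hg))) ψ hψ
      fun x hx => (Char.mem_charKer ψ.2.isCharacter).1 hx

end Transitive

section Main

variable {D : Type u} {E : Type v} [Group D] [Fintype D] [AddCommGroup E] [Finite E]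
  [DistribMulAction D E] [FaithfulSMul D E] [Nontrivial E]
  (hodd : Odd (Nat.card D)) (hE : ∀ w : E, 2 • w = 0)
  (htrans : ∀ a b : E, a ≠ 0 → b ≠ 0 → ∃ d : D, d • a = b)

include htrans in
theorem card_sub_one_dvd : Nat.card E - 1 ∣ Nat.card D := by
  obtain ⟨v₀, hv₀⟩ := exists_ne (0 : E)
  have horb : MulAction.orbit D v₀ = ({0} : Set E)ᶜ := by
    ext w
    rw [Set.mem_compl_singleton_iff, MulAction.mem_orbit_iff]
    exact ⟨fun ⟨g, hg⟩ => hg ▸ fun e => hv₀ ((smul_eq_zero_iff_eq g).1 e),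
      fun hw => htrans v₀ w hv₀ hw⟩
  have h := (MulAction.stabilizer D v₀).index_dvd_card
  rwa [MulAction.index_stabilizer, horb, Set.ncard_compl, Set.ncard_singleton] at h

/-- Everything needed from a constituent of the lifted character. -/
theorem exists_constituent_small {n r : ℕ} [hr : Fact r.Prime] (hr2 : r ≠ 2) (hn1 : 1 < n)
    (hcard : Nat.card E = 2 ^ n) (hp : Primitive n r)
    (hodd : Odd (Nat.card D)) (hE : ∀ w : E, 2 • w = 0)
    (htrans : ∀ a b : E, a ≠ 0 → b ≠ 0 → ∃ d : D, d • a = b) :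
    ∃ (ψ : D → ℂ) (d : ℕ), IsIrrCharacter D ψ ∧ ψ 1 = d ∧ Odd d ∧ 2 * d + 1 ≤ r ∧ d + 1 < r ∧
      (∀ g, ψ g = ψ 1 → g = 1) ∧
      (r = 2 * d + 1 → ∀ (g : D) (ζ : ℂ), ψ g = d * ζ → ‖ζ‖ = 1 → ζ ^ 3 = 1) := by
  classical
  obtain ⟨m, χ, k, hm0, hχ, hm, hsq, hfaith, hexp, hdeg, hker⟩ := exists_lifted hodd hE htrans
  obtain rfl : n = m := Nat.pow_right_injective le_rfl (hcard.symm.trans hm)
  -- `n` divides `r - 1`
  obtain ⟨j, hj⟩ : n ∣ r - 1 := by
    have h2 : Nat.Coprime 2 r := (Nat.coprime_primes Nat.prime_two hr.out).2 (Ne.symm hr2)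
    have h1 : 2 ^ (r - 1) ≡ 1 [MOD r] := by
      rw [← Nat.totient_prime hr.out]; exact Nat.ModEq.pow_totient h2
    have hn' : 2 ^ n ≡ 1 [MOD r] := ((Nat.modEq_iff_dvd' Nat.one_le_two_pow).2 hp.dvd).symm
    rw [← Nat.div_add_mod (r - 1) n, pow_add, pow_mul] at h1
    have h3 : 2 ^ ((r - 1) % n) ≡ 1 [MOD r] := by
      have := ((hn'.pow ((r - 1) / n)).mul_right (2 ^ ((r - 1) % n))).symm
      rw [one_pow, one_mul] at this
      exact this.trans h1
    have hlt := Nat.mod_lt (r - 1) (show n > 0 by omega)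
    rcases eq_zero_or_eq_of_modEq hp hlt.le h3 with h | h
    · exact Nat.dvd_of_mod_eq_zero h
    · omega
  have hj1 : j ≠ 0 := by
    rintro rfl
    have := hr.out.two_le
    omega
  obtain ⟨q, hq⟩ := hr.out.odd_of_ne_two hr2
  have hne : (Finset.univ.filter fun ψ : IrrCharacter D => k ψ ≠ 0).Nonempty := by
    by_contra h
    rw [Finset.not_nonempty_iff_eq_empty, Finset.filter_eq_empty_iff] at h
    rw [Finset.sum_eq_zero fun ψ hψ => by rw [not_not.1 (h hψ), zero_mul]] at hdeg
    omega
  obtain ⟨ψ, hψ, hmin⟩ := Finset.exists_min_image _ (fun ψ : IrrCharacter D => charDegree (ψ : D → ℂ)) hne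
  replace hψ := (Finset.mem_filter.1 hψ).2
  set d := charDegree (ψ : D → ℂ) with hd
  have hd1 : (ψ : D → ℂ) 1 = d := ψ.2.apply_one_eq_charDegree
  have hdodd : Odd d := Odd.of_dvd_nat hodd (Char.degree_dvd_card ψ.2 hd1)
  have hsplit : k ψ * d + ∑ φ ∈ Finset.univ.erase ψ, k φ * charDegree (φ : D → ℂ) = n := by
    rw [← hdeg, ← Finset.add_sum_erase _ _ (Finset.mem_univ ψ)]
  set rest := ∑ φ ∈ Finset.univ.erase ψ, k φ * charDegree (φ : D → ℂ) with hrest
  have hrest' : ∀ φ : IrrCharacter D, φ ≠ ψ → k φ ≠ 0 →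
      d ≤ k φ * charDegree (φ : D → ℂ) ∧ k φ * charDegree (φ : D → ℂ) ≤ rest := fun φ hφ hk =>
    ⟨(hmin φ (Finset.mem_filter.2 ⟨Finset.mem_univ _, hk⟩)).trans
        (Nat.le_mul_of_pos_left _ (Nat.pos_of_ne_zero hk)),
      Finset.single_le_sum (f := fun φ : IrrCharacter D => k φ * charDegree (φ : D → ℂ))
        (fun _ _ => Nat.zero_le _) (Finset.mem_erase.2 ⟨hφ, Finset.mem_univ _⟩)⟩
  have hkd : d ≤ k ψ * d := Nat.le_mul_of_pos_left _ (Nat.pos_of_ne_zero hψ)
  -- the bound on the degree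
  have hbound : 2 * d + 1 ≤ r ∧ d + 1 < r ∧ (r = 2 * d + 1 → n = d ∨ n = 2 * d) := by
    have := hdodd.pos
    rcases (by omega : j = 1 ∨ j = 2 ∨ 3 ≤ j) with rfl | rfl | hj3
    · have h2d : 2 * d ≤ n := by
        by_contra hcon
        have hk1 : k ψ = 1 := by
          by_contra h
          have : 2 * d ≤ k ψ * d := Nat.mul_le_mul_right d (by omega)
          omega
        rw [hk1, one_mul] at hsplit
        by_cases h0 : rest = 0
        · obtain ⟨i, hi⟩ := hdodd
          omega
        · obtain ⟨φ, hφ, hφ0⟩ := Finset.exists_ne_zero_of_sum_ne_zero h0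
          have := hrest' φ (Finset.mem_erase.1 hφ).1 (left_ne_zero_of_mul hφ0)
          omega
      omega
    · omega
    · have : 3 * n ≤ n * j := by rw [mul_comm]; exact Nat.mul_le_mul_left n hj3
      omega
  refine ⟨ψ, d, ψ.2, hd1, hdodd, hbound.1, hbound.2.1, hker ψ hψ, fun hrd g ζ hg hζ => ?_⟩
  have hd0 : (d : ℂ) ≠ 0 := Nat.cast_ne_zero.2 hdodd.pos.ne'
  obtain ⟨ζ', -, hpow, hcomm⟩ := scalar_pow ψ.2 hd1 (g := g)
    (by rw [hg, norm_mul, hζ, mul_one, Complex.norm_natCast])
  obtain rfl : ζ' = ζ := by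
    have := hpow 1
    rw [pow_one, pow_one, hg] at this
    exact (mul_left_cancel₀ hd0 this).symm
  have hχ2 : χ (g ^ 2) = χ g := by rw [pow_two]; exact hsq g
  have hχ4 : χ (g ^ 4) = χ g := by
    rw [show g ^ 4 = g ^ 2 * g ^ 2 by rw [← pow_add], hsq, hχ2]
  have hζ0 : ζ' ≠ 0 := fun e => by rw [e, norm_zero] at hζ; exact zero_ne_one hζ
  rcases hbound.2.2 hrd with hnd | hnd
  · have hk1 : k ψ = 1 := Nat.eq_of_mul_eq_mul_right hdodd.pos (by omega : k ψ * d = 1 * d)
    have hχψ : ∀ x, χ x = (ψ : D → ℂ) x := by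
      intro x
      rw [hexp, Finset.sum_eq_single ψ (fun φ _ hφ => ?_) (by simp), hk1, Nat.cast_one, one_mul]
      by_cases hk : k φ = 0
      · rw [hk, Nat.cast_zero, zero_mul]
      · have := hrest' φ hφ hk
        have := hdodd.pos
        omega
    rw [hχψ, hχψ, hpow, hg] at hχ2
    have h2 : ζ' ^ 2 = ζ' := mul_left_cancel₀ hd0 hχ2
    have h1 : ζ' = 1 := mul_left_cancel₀ hζ0 (by rw [mul_one, ← pow_two, h2])
    rw [h1, one_pow]
  · obtain ⟨φ, hφd, hφ⟩ : ∃ φ : IrrCharacter D, (φ : D → ℂ) 1 = d ∧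
        ∀ x, χ x = (ψ : D → ℂ) x + (φ : D → ℂ) x := by
      by_cases hr0 : rest = 0
      · refine ⟨ψ, hd1, fun x => ?_⟩
        have hk2 : k ψ = 2 := Nat.eq_of_mul_eq_mul_right hdodd.pos (by omega : k ψ * d = 2 * d)
        rw [hexp, Finset.sum_eq_single ψ (fun φ _ hφ => ?_) (by simp), hk2]
        · push_cast; ring
        by_cases hk : k φ = 0
        · rw [hk, Nat.cast_zero, zero_mul]
        · have := hrest' φ hφ hk
          have := hdodd.pos
          omega
      · obtain ⟨φ, hφ, hφ0⟩ := Finset.exists_ne_zero_of_sum_ne_zero hr0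
        have hne' := (Finset.mem_erase.1 hφ).1
        have hb := hrest' φ hne' (left_ne_zero_of_mul hφ0)
        have hk1 : k ψ = 1 := Nat.eq_of_mul_eq_mul_right hdodd.pos (by omega : k ψ * d = 1 * d)
        have hfd : charDegree (φ : D → ℂ) = d := by
          refine le_antisymm ?_ (hmin φ (Finset.mem_filter.2 ⟨Finset.mem_univ _, left_ne_zero_of_mul hφ0⟩))
          have := Nat.le_mul_of_pos_left (charDegree (φ : D → ℂ))
            (Nat.pos_of_ne_zero (left_ne_zero_of_mul hφ0))
          rw [hk1, one_mul] at hsplit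
          omega
        have hkφ : k φ = 1 := by
          refine Nat.eq_of_mul_eq_mul_right hdodd.pos ?_
          rw [hk1, one_mul] at hsplit
          rw [hfd] at hb
          omega
        refine ⟨φ, by rw [φ.2.apply_one_eq_charDegree, hfd], fun x => ?_⟩
        rw [hexp, Finset.sum_eq_add_of_mem ψ φ (Finset.mem_univ _) (Finset.mem_univ _) hne'.symm,
          hk1, hkφ, Nat.cast_one, one_mul, one_mul]
        rintro θ - ⟨hθ1, hθ2⟩
        by_cases hk : k θ = 0
        · rw [hk, Nat.cast_zero, zero_mul]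
        · have h3 := (hrest' θ hθ1 hk).1
          have h4 : k φ * charDegree (φ : D → ℂ) + k θ * charDegree (θ : D → ℂ) ≤ rest := by
            rw [hrest, ← Finset.sum_pair (f := fun x => k x * charDegree (x : D → ℂ)) (Ne.symm hθ2)]
            refine Finset.sum_le_sum_of_subset fun y hy => ?_
            rcases Finset.mem_insert.1 hy with rfl | hy
            · exact Finset.mem_erase.2 ⟨hne', Finset.mem_univ _⟩
            · rw [Finset.mem_singleton.1 hy]; exact Finset.mem_erase.2 ⟨hθ1, Finset.mem_univ _⟩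
          rw [hk1, one_mul] at hsplit
          rw [hkφ, one_mul, hfd] at h4
          have := hdodd.pos
          omega
    have hcen : g ∈ Subgroup.center D := Subgroup.mem_center_iff.2 fun x => by
      have := hker ψ hψ _ (hcomm x)
      rw [mul_inv_eq_one, mul_inv_eq_iff_eq_mul] at this
      exact this
    obtain ⟨ξ, hξ, hpow', -⟩ := scalar_pow φ.2 hφd (norm_of_central φ.2 hφd hcen)
    have hξ0 : ξ ≠ 0 := fun e => by rw [e, norm_zero] at hξ; exact zero_ne_one hξ
    have hg' : (φ : D → ℂ) g = d * ξ := by simpa using hpow' 1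
    rw [hφ, hφ, hpow, hpow', hg, hg', ← mul_add, ← mul_add] at hχ2 hχ4
    exact cube_of_pair hξ0 hζ0 (mul_left_cancel₀ hd0 hχ2) (mul_left_cancel₀ hd0 hχ4)

include hodd hE htrans in
theorem sylow_normal_of_primitive {n r : ℕ} [hr : Fact r.Prime] (hr2 : r ≠ 2) (hn1 : 1 < n)
    (hcard : Nat.card E = 2 ^ n) (hp : Primitive n r) (P : Sylow r D) : (P : Subgroup D).Normal := by
  obtain ⟨ψ, d, hψ, hd1, hdodd, hle, hlt, hfaith, hscal⟩ :=
    exists_constituent_small hr2 hn1 hcard hp hodd hE htrans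
  have hψ' := hψ.isCharacter
  obtain ⟨d', ρ, -, rfl⟩ := id hψ
  obtain rfl : d = d' := by
    rw [Representation.char_one, Module.finrank_fintype_fun_eq_card, Fintype.card_fin] at hd1
    exact_mod_cast hd1.symm
  have hρ : Function.Injective ρ := by
    intro a b h
    have h1 : ρ (a * b⁻¹) = LinearMap.id := by
      rw [map_mul, h, ← map_mul, mul_inv_cancel, map_one]; rfl
    exact mul_inv_eq_one.1 (hfaith _ (by
      rw [Representation.char_one]; exact (Char.character_eq_finrank_iff ρ _).2 h1))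
  refine Cfsg.Agent.S0899.result d ρ hρ r (Or.inr ⟨hlt, fun K hK Q => ?_⟩) P
  haveI : Fintype K := Fintype.ofFinite _
  obtain ⟨e, he⟩ := IsPGroup.iff_card.1 Q.isPGroup'
  have he1 : e ≤ 1 := by
    by_contra hc
    exact hK ((pow_dvd_pow r (by omega : 2 ≤ e)).trans (he ▸ Subgroup.card_subgroup_dvd_card _))
  interval_cases e
  · rw [show (Q : Subgroup K) = ⊥ from Subgroup.card_eq_one.1 (by rw [he, pow_zero])]; infer_instance
  have hQ : Nat.card (Q : Subgroup K) = r := by rw [he, pow_one]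
  have hQD : Nat.card ((Q : Subgroup K).map K.subtype) = r := by
    rw [Subgroup.card_map_of_injective K.subtype_injective, hQ]
  haveI := isCyclic_centralizer hcard hp (E := E) hQD
  refine normal_of_degree hQ hK (Odd.of_dvd_nat hodd (Subgroup.card_subgroup_dvd_card K)) hdodd hle
    (fun a b => ?_) (hψ'.comp K.subtype) hd1 (fun x h => Subtype.ext (hfaith x h))
    fun he g ζ h => hscal he g ζ h
  have hmem : ∀ c : Subgroup.centralizer ((Q : Subgroup K) : Set K),
      ((c : K) : D) ∈ Subgroup.centralizer (((Q : Subgroup K).map K.subtype : Subgroup D) : Set D) := by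
    intro c
    refine Subgroup.mem_centralizer_iff.2 ?_
    rintro _ ⟨y, hy, rfl⟩
    exact congrArg Subtype.val (Subgroup.mem_centralizer_iff.1 c.2 y hy)
  refine Subtype.ext (Subtype.ext ?_)
  haveI : IsMulCommutative
      (Subgroup.centralizer (((Q : Subgroup K).map K.subtype : Subgroup D) : Set D)) :=
    IsCyclic.isMulCommutative
  have h2 := congrArg Subtype.val (mul_comm'
    (⟨((a : K) : D), hmem a⟩ : Subgroup.centralizer (((Q : Subgroup K).map K.subtype : Subgroup D) : Set D))
    ⟨((b : K) : D), hmem b⟩)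
  exact h2

include hodd hE htrans in
theorem isSolvable_of_primitive {n r : ℕ} [hr : Fact r.Prime] (hn1 : 1 < n)
    (hcard : Nat.card E = 2 ^ n) (hp : Primitive n r) : Group.IsSolvable D := by
  have hr2 : r ≠ 2 := by
    rintro rfl
    have h1 : 2 ∣ 2 ^ n := dvd_pow_self 2 (by omega)
    have h2 := hp.dvd
    have := Nat.one_le_two_pow (n := n)
    omega
  have hrD : r ∣ Nat.card D := hp.dvd.trans (hcard ▸ card_sub_one_dvd htrans)
  obtain ⟨x, hx⟩ := exists_prime_orderOf_dvd_card' r hrD
  set R := Subgroup.zpowers x with hRdef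
  have hR : Nat.card R = r := by rw [hRdef, Nat.card_zpowers, hx]
  haveI := isCyclic_centralizer (E := E) hcard hp hR
  haveI : IsMulCommutative R := (isCyclic_of_prime_card hR).isMulCommutative
  obtain ⟨P, hRP⟩ := (IsPGroup.of_card (n := 1) (by rw [hR, pow_one]) : IsPGroup r R).exists_le_sylow
  have hPn := sylow_normal_of_primitive hodd hE htrans hr2 hn1 hcard hp P
  haveI : Nontrivial (P : Subgroup D) :=
    ⟨⟨⟨x, hRP (Subgroup.mem_zpowers x)⟩, 1, fun e => by
      have := congrArg Subtype.val e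
      simp only [OneMemClass.coe_one] at this
      rw [this, orderOf_one] at hx
      exact hr.out.one_lt.ne hx⟩⟩
  haveI := P.isPGroup'.center_nontrivial
  obtain ⟨z, hz⟩ := exists_prime_orderOf_dvd_card' (G := Subgroup.center (P : Subgroup D)) r (by
    obtain ⟨c, hc⟩ := IsPGroup.iff_card.1 (P.isPGroup'.to_subgroup (Subgroup.center (P : Subgroup D)))
    rw [hc]
    refine dvd_pow_self r fun h0 => ?_
    rw [h0, pow_zero] at hc
    exact absurd (Finite.one_lt_card (α := Subgroup.center (P : Subgroup D))) (by omega))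
  set X := Subgroup.zpowers (((z : (P : Subgroup D)) : D)) with hX
  have hXc : Nat.card X = r := by
    rw [hX, Nat.card_zpowers, Subgroup.orderOf_coe, Subgroup.orderOf_coe, hz]
  have hPX : ∀ y ∈ (P : Subgroup D), ((z : (P : Subgroup D)) : D) * y = y * ((z : (P : Subgroup D)) : D) :=
    fun y hy => (congrArg Subtype.val (Subgroup.mem_center_iff.1 z.2 ⟨y, hy⟩)).symm
  have hXR : X = R := by
    refine eq_of_card_of_le_cyclic (C := Subgroup.centralizer (R : Set D)) hXc hR ?_
      (Subgroup.le_centralizer R)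
    rw [hX, Subgroup.zpowers_le]
    exact Subgroup.mem_centralizer_iff.2 fun y hy => (hPX y (hRP hy)).symm
  have hPC : (P : Subgroup D) ≤ Subgroup.centralizer (R : Set D) := by
    intro y hy
    refine Subgroup.mem_centralizer_iff.2 fun w hw => ?_
    rw [SetLike.mem_coe, ← hXR] at hw
    obtain ⟨i, rfl⟩ := hw
    exact (Commute.zpow_left (hPX y hy) i).eq
  haveI hRn : R.Normal := by
    refine ⟨fun y hy g => ?_⟩
    have hconj : R.map (MulAut.conj g).toMonoidHom = R := by
      refine eq_of_card_of_le_cyclic (C := Subgroup.centralizer (R : Set D))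
        (by rw [Subgroup.card_map_of_injective (MulAut.conj g).injective, hR]) hR ?_
        (Subgroup.le_centralizer R)
      rintro _ ⟨w, hw, rfl⟩
      exact hPC (hPn.conj_mem w (hRP hw) g)
    exact hconj.le ⟨y, hy, rfl⟩
  haveI : Group.IsSolvable (Subgroup.centralizer (R : Set D)) :=
    Group.isSolvable_of_comm IsCyclic.commGroup.mul_comm
  haveI : IsCyclic R := isCyclic_of_prime_card hR
  haveI : Group.IsSolvable (MulAut R) := by
    let e := (IsCyclic.mulAutMulEquiv (G := R)).symm.symm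
    exact Group.isSolvable_of_comm fun a b => e.injective (by rw [map_mul, map_mul, mul_comm])
  refine Group.isSolvable_of_ker_le_range (Subgroup.centralizer (R : Set D)).subtype
    (MulAut.conjNormal : D →* MulAut R) fun g hg => ?_
  rw [Subgroup.range_subtype, Subgroup.mem_centralizer_iff]
  intro w hw
  have := congrArg Subtype.val (DFunLike.congr_fun (MonoidHom.mem_ker.1 hg) (⟨w, hw⟩ : R))
  simp only [MulAut.conjNormal_apply, MulAut.one_apply] at this
  exact (mul_inv_eq_iff_eq_mul.1 this).symm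

include hodd hE htrans in
theorem card_dvd_six (hcard : Nat.card E = 2 ^ 6) : Nat.card D ∣ 615195 := by
  haveI : Fact (Nat.Prime 2) := ⟨Nat.prime_two⟩
  letI : Module (ZMod 2) E := AddCommGroup.zmodModule hE
  have hfin : finrank (ZMod 2) E = 6 := by
    refine Nat.pow_right_injective le_rfl ?_
    show 2 ^ finrank (ZMod 2) E = 2 ^ 6
    rw [← hcard, Module.natCard_eq_pow_finrank (K := ZMod 2), Nat.card_zmod]
  let b : Basis (Fin 6) (ZMod 2) E := Module.finBasisOfFinrankEq _ _ hfin
  let L : D →* Module.End (ZMod 2) E :=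
    { toFun := fun g => (DistribMulAction.toAddMonoidEnd D E g : E →+ E).toZModLinearMap 2
      map_one' := LinearMap.ext fun w => one_smul D w
      map_mul' := fun g h => LinearMap.ext fun w => mul_smul g h w }
  let f := ((LinearMap.toMatrixAlgEquiv b).toMonoidHom.comp L).toHomUnits
  have hf : Function.Injective f := fun g h e => eq_of_smul_eq_smul fun w : E =>
    LinearMap.congr_fun ((LinearMap.toMatrixAlgEquiv b).injective (congrArg Units.val e) : L g = L h) w
  have h := Subgroup.card_dvd_of_injective f hf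
  rw [Matrix.card_GL_field] at h
  simp only [Fin.prod_univ_succ, Fin.prod_univ_zero, Fintype.card_fin, ZMod.card] at h
  norm_num at h
  have h' : Nat.card D ∣ 615195 * 2 ^ 15 := by
    rw [show (615195 : ℕ) * 2 ^ 15 = 20158709760 by norm_num, Nat.card_eq_fintype_card]
    exact h
  exact (Nat.Coprime.pow_right 15 (Nat.coprime_two_right.2 hodd)).dvd_of_dvd_mul_right h'

include hodd hE htrans in
theorem isSolvable_six (hcard : Nat.card E = 2 ^ 6) : Group.IsSolvable D := by
  classical
  have hdvd := card_dvd_six hodd hE htrans hcard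
  obtain ⟨m, χ, k, hm0, hχ, hm, -, hfaith, hexp, hdeg, -⟩ := exists_lifted hodd hE htrans
  obtain rfl : m = 6 := Nat.pow_right_injective le_rfl (hm.symm.trans hcard)
  -- no element of order 31
  have h31 : ¬ 31 ∣ Nat.card D := by
    intro h
    haveI : Fact (Nat.Prime 31) := ⟨by norm_num⟩
    obtain ⟨x, hx⟩ := exists_prime_orderOf_dvd_card' 31 h
    set R := Subgroup.zpowers x with hRdef
    have hR : Nat.card R = 31 := by rw [hRdef, Nat.card_zpowers, hx]
    have hsq : ¬ 31 ^ 2 ∣ Nat.card D := fun h2 => by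
      have := h2.trans hdvd
      norm_num at this
    have hRn : R.Normal := by
      refine normal_of_constituents hR hsq hχ hfaith fun ψ h0 => ?_
      have hkψ : k ψ ≠ 0 := by
        intro e
        apply h0
        rw [show χ = fun g => ∑ φ : IrrCharacter D, (k φ : ℂ) * (φ : D → ℂ) g from funext hexp,
          show (fun g => ∑ φ : IrrCharacter D, (k φ : ℂ) * (φ : D → ℂ) g) =
            ∑ φ : IrrCharacter D, (k φ : ℂ) • (φ : D → ℂ) by funext g; simp,
          Char.classInner_sum_left]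
        refine Finset.sum_eq_zero fun φ _ => ?_
        rw [Char.classInner_smul_left]
        by_cases hφ : φ = ψ
        · rw [hφ, e, Nat.cast_zero, zero_mul]
        · rw [Char.classInner_irr_ne φ.2 ψ.2 fun e => hφ (Subtype.ext e), mul_zero]
      have := (Nat.le_mul_of_pos_left (charDegree (ψ : D → ℂ)) (Nat.pos_of_ne_zero hkψ)).trans
        ((Finset.single_le_sum (f := fun φ : IrrCharacter D => k φ * charDegree (φ : D → ℂ))
          (fun _ _ => Nat.zero_le _) (Finset.mem_univ ψ)).trans hdeg.le)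
      omega
    have hne : R ≠ ⊥ := fun e => by rw [e, Subgroup.card_bot] at hR; omega
    have hbot : (fixSub R : AddSubgroup E) = ⊥ :=
      (AddSubgroup.eq_bot_iff_forall _).2 fun w hw => fix_eq_zero htrans hRn hne hw
    have hmod := card_modEq hR (⊤ : AddSubgroup E) fun _ _ _ _ => AddSubgroup.mem_top _
    rw [AddSubgroup.card_top, top_inf_eq, hcard, hbot, AddSubgroup.card_bot] at hmod
    norm_num [Nat.ModEq] at hmod
  have h1 : Nat.card D ∣ 3 ^ 4 * 7 ^ 2 * 5 := by
    refine Nat.Coprime.dvd_of_dvd_mul_right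
      ((Nat.Prime.coprime_iff_not_dvd (by norm_num : Nat.Prime 31)).2 h31).symm ?_
    rw [show (3 : ℕ) ^ 4 * 7 ^ 2 * 5 * 31 = 615195 by norm_num]
    exact hdvd
  have hpq : ∀ {K : Type u} [Group K] [Finite K], Nat.card K ∣ 3 ^ 4 * 7 ^ 2 → Group.IsSolvable K := by
    intro K _ _ hK
    obtain ⟨k₁, k₂, h1, h2, h3⟩ := Nat.dvd_mul.1 hK
    obtain ⟨a, -, rfl⟩ := (Nat.dvd_prime_pow Nat.prime_three).1 h1
    obtain ⟨b, -, rfl⟩ := (Nat.dvd_prime_pow (by norm_num : Nat.Prime 7)).1 h2
    exact Cfsg.Agent.S0144.result 3 7 a b Nat.prime_three (by norm_num) h3.symm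
  by_cases h5 : 5 ∣ Nat.card D
  swap
  · exact hpq (Nat.Coprime.dvd_of_dvd_mul_right
      ((Nat.Prime.coprime_iff_not_dvd (by norm_num)).2 h5).symm h1)
  haveI : Fact (Nat.Prime 5) := ⟨by norm_num⟩
  let P : Sylow 5 D := default
  have hP : Nat.card (P : Subgroup D) = 5 := by
    obtain ⟨e, he⟩ := IsPGroup.iff_card.1 P.isPGroup'
    have hle : e ≤ 1 := by
      by_contra hc
      have := ((pow_dvd_pow 5 (by omega : 2 ≤ e)).trans
        (he ▸ Subgroup.card_subgroup_dvd_card (P : Subgroup D))).trans h1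
      norm_num at this
    interval_cases e
    · exact absurd (Sylow.dvd_card_of_dvd_card P h5) (by rw [he]; norm_num)
    · rw [he, pow_one]
  haveI : IsCyclic (P : Subgroup D) := isCyclic_of_prime_card hP
  haveI : IsMulCommutative (P : Subgroup D) := IsCyclic.isMulCommutative
  have hNC : Subgroup.normalizer (P : Set D) ≤ Subgroup.centralizer (P : Set D) := by
    have key := Subgroup.card_dvd_of_injective _
      (QuotientGroup.kerLift_injective (P : Subgroup D).normalizerMonoidHom)
    rw [Subgroup.normalizerMonoidHom_ker, ← Subgroup.index, ← Subgroup.relIndex,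
      IsCyclic.card_mulAut, hP, Nat.totient_prime (by norm_num)] at key
    refine Subgroup.relIndex_eq_one.1 (Nat.eq_one_of_dvd_coprimes ?_ dvd_rfl key)
    have : Odd ((Subgroup.centralizer ((P : Subgroup D) : Set D)).relIndex
        (Subgroup.normalizer ((P : Subgroup D) : Set D))) :=
      Odd.of_dvd_nat hodd ((Subgroup.index_dvd_card _).trans (Subgroup.card_subgroup_dvd_card _))
    exact Nat.Coprime.pow_right 2 (Nat.coprime_two_right.2 this)
  have hc := MonoidHom.ker_transferSylow_isComplement' P hNC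
  haveI : Group.IsSolvable (MonoidHom.transferSylow P hNC).ker := by
    refine hpq ?_
    have h2 := hc.card_mul
    rw [show Nat.card (P : Subgroup D) = 5 from hP] at h2
    exact Nat.dvd_of_mul_dvd_mul_right (by norm_num) (h2 ▸ h1)
  haveI : Group.IsSolvable (P : Subgroup D) := Group.isSolvable_of_comm fun a b => mul_comm' a b
  exact Group.isSolvable_of_ker_le_range (MonoidHom.transferSylow P hNC).ker.subtype
    (MonoidHom.transferSylow P hNC) (Subgroup.range_subtype _).ge

include hodd hE htrans in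
/-- **Transitive linear groups of odd order in characteristic two are solvable.** -/
theorem isSolvable_of_transitive : Group.IsSolvable D := by
  haveI : Fact (Nat.Prime 2) := ⟨Nat.prime_two⟩
  obtain ⟨m, -, -, hm0, -, hm, -⟩ := exists_lifted hodd hE htrans
  by_cases h1 : m = 1
  · subst h1
    haveI : Subsingleton D := by
      refine subsingleton_of_forall_eq 1 fun g => eq_one_of_fix_all fun w : E => ?_
      classical
      haveI : Fintype E := Fintype.ofFinite E
      by_cases hw : w = 0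
      · rw [hw, smul_zero]
      by_contra hne
      have h3 := Finset.card_le_univ ({0, w, g • w} : Finset E)
      rw [← Nat.card_eq_fintype_card, hm, pow_one,
        Finset.card_insert_of_notMem (by
          simp only [Finset.mem_insert, Finset.mem_singleton, not_or]
          exact ⟨Ne.symm hw, fun e => hw ((smul_eq_zero_iff_eq g).1 e.symm)⟩),
        Finset.card_pair (Ne.symm hne)] at h3
      omega
    infer_instance
  by_cases h6 : m = 6
  · subst h6; exact isSolvable_six hodd hE htrans hm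
  obtain ⟨r, hr, hdvd, hmin⟩ := Cfsg.Agent.S2904.result 2 m (by norm_num) (by omega)
    (fun h => h6 h.2) (by
      rintro ⟨rfl, i, hi⟩
      rcases i with _ | _ | i
      · norm_num at hi
      · norm_num at hi
      · rw [pow_succ, pow_succ] at hi; omega)
  haveI := Fact.mk hr
  exact isSolvable_of_primitive hodd hE htrans (by omega) hm ⟨hdvd, hmin⟩

end Main

end Cfsg.Lib.OddTrans
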